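import Groth.Agent.RefCh18.Sum
import Groth.Agent.Props58.PullTensor
import Groth.Agent.ConsProp93.Locus
import Groth.Prelude.Def_Frob

/-! Reflexive Frobenius pull-backs of rank one reflexive modules are reflexive powers. -/

set_option autoImplicit false
set_option backward.isDefEq.respectTransparency.types false
set_option linter.style.haveILetI false
universe u

open CategoryTheory CategoryTheory.Limits AlgebraicGeometry TopologicalSpace IsLocalRing

noncomputable section

namespace Groth.Agent.RefCh18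

open Groth.Agent Groth.Agent.QC70 Groth.Agent.Div89 Groth.Agent.Div89.Ref1

variable {X : Scheme.{u}} [IsIntegral X] [IsLocallyNoetherian X]

/-- The reflexive hull of a module framed in codimension at most one. -/
theorem exists_hull_sord {T : X.Modules} (hT : Coh.IsCoh T) (hη : Framed T (genericPoint X))
    {w : T.presheaf.stalk (genericPoint X)} (hw : w ≠ 0) :
    RefHull.IsRef1 (RefHull.ddual T) ∧
    ∃ w' : (RefHull.ddual T).presheaf.stalk (genericPoint X), w' ≠ 0 ∧
      ∀ x : X, Order.coheight x = 1 → Framed T x → sord (RefHull.ddual T) x w' = sord T x w := by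
  have hD : Coh.IsCoh (RefHull.ddual T) := isCoh_dual _ (isCoh_dual _ hT)
  have hb : ∀ x, Framed T x → Function.Bijective (RefHull.stalkMapₗ (RefHull.bidualMap T) x) := fun x hx =>
    bijective_stalk_bidual _ hT x (isReflexiveAt_of_framed hx)
  refine ⟨isRef1_of_framed hD (isReflexiveAt_ddual _ hT) (framed_of_bijective hD _ hη (hb _ hη)),
    RefHull.stalkMapₗ (RefHull.bidualMap T) (genericPoint X) w,
    fun h0 => hw ((hb _ hη).1 (h0.trans (map_zero _).symm)), fun x hc hfx => ?_⟩
  exact sord_map _ hc hfx (hb x hfx) (hb _ hη).1 hw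

theorem ord_pow_nat (φ : X.functionField) (hφ : φ ≠ 0) {x : X} (hc : Order.coheight x = 1) :
    ∀ k : ℕ, Scheme.ord (φ ^ k) x = (k : ℤ) * Scheme.ord φ x
  | 0 => by rw [pow_zero, Nat.cast_zero, zero_mul]; exact ord_one' hc
  | k + 1 => by
    rw [pow_succ, Scheme.ord_mul (pow_ne_zero k hφ) hφ, ord_pow_nat φ hφ hc k]
    push_cast; ring

variable (p : ℕ) [Fact p.Prime] [FrobSch.IsCharP X p]

theorem exists_frobPull_sord (hN : Pi1.IsNormalScheme X) {H : X.Modules} (hH : RefHull.IsRef1 H)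
    {v : H.presheaf.stalk (genericPoint X)} (hv : v ≠ 0) :
    RefHull.IsRef1 (RefHull.ddual ((Scheme.Modules.pullback (FrobSch.frob X p)).obj H)) ∧
    ∃ w : (RefHull.ddual ((Scheme.Modules.pullback (FrobSch.frob X p)).obj H)).presheaf.stalk (genericPoint X),
      w ≠ 0 ∧ ∀ x : X, Order.coheight x = 1 →
        sord (RefHull.ddual ((Scheme.Modules.pullback (FrobSch.frob X p)).obj H)) x w = (p : ℤ) * sord H x v := by
  let T := (Scheme.Modules.pullback (FrobSch.frob X p)).obj H
  have hT : Coh.IsCoh T := Groth.Agent.ConsProp93.isCoh_pullback _ hH.1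
  have hfr : ∀ x, Framed H x → Framed T x := fun x ⟨W, hx, e, he⟩ =>
    ⟨W, hx, _, Props58.PullTensor.isFrame_pullS (FrobSch.frob X p) he⟩
  obtain ⟨W₀, hη₀, n, rfl⟩ := H.presheaf.exists_germ_eq (x := genericPoint X) v
  let w : T.presheaf.stalk (genericPoint X) :=
    germM T W₀ (genericPoint X) hη₀ (Amp73.pullS (FrobSch.frob X p) H W₀ n)
  have key : ∀ (W : X.Opens) (hη : genericPoint X ∈ W) (e : Γ(H, W)) (he : Var76.LineBundle.IsFrame H W e),
      ∃ φ : X.functionField, φ ≠ 0 ∧
        germM H W₀ (genericPoint X) hη₀ n = (φ : X.presheaf.stalk (genericPoint X)) • germM H W (genericPoint X) hη e ∧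
        w = ((φ ^ p : X.functionField) : X.presheaf.stalk (genericPoint X)) •
          germM T W (genericPoint X) hη (Amp73.pullS (FrobSch.frob X p) H W e) := by
    intro W hη e he
    obtain ⟨a, ha⟩ := (he (W ⊓ W₀) inf_le_left).2 (Var76.LineBundle.res H inf_le_right n)
    have hm : genericPoint X ∈ W ⊓ W₀ := ⟨hη, hη₀⟩
    refine ⟨X.presheaf.germ (W ⊓ W₀) (genericPoint X) hm a, ?_, ?_, ?_⟩
    · intro h0
      refine hv ?_
      show germM H W₀ (genericPoint X) hη₀ n = 0
      rw [← germM_res (M := H) (inf_le_right : W ⊓ W₀ ≤ W₀) hm n,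
        show res H (inf_le_right : W ⊓ W₀ ≤ W₀) n = a • res H inf_le_left e from ha.symm, germM_smul]
      show (X.presheaf.germ (W ⊓ W₀) (genericPoint X) hm a : X.presheaf.stalk (genericPoint X)) • _ = 0
      rw [show (X.presheaf.germ (W ⊓ W₀) (genericPoint X) hm a : X.presheaf.stalk (genericPoint X)) = 0 from h0,
        zero_smul]
    · rw [← germM_res (M := H) (inf_le_right : W ⊓ W₀ ≤ W₀) hm n,
        show res H (inf_le_right : W ⊓ W₀ ≤ W₀) n = a • res H inf_le_left e from ha.symm, germM_smul,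
        germM_res]
    · have e1 := Amp73.res_pullS (FrobSch.frob X p) H (inf_le_right : W ⊓ W₀ ≤ W₀) n
      have e2 := Amp73.res_pullS (FrobSch.frob X p) H (inf_le_left : W ⊓ W₀ ≤ W) e
      rw [show w = germM T W₀ (genericPoint X) hη₀ (Amp73.pullS (FrobSch.frob X p) H W₀ n) from rfl,
        ← germM_res (M := T) (inf_le_right : W ⊓ W₀ ≤ W₀) hm]
      rw [show res T (inf_le_right : W ⊓ W₀ ≤ W₀) (Amp73.pullS (FrobSch.frob X p) H W₀ n) =
          Amp73.pullS (FrobSch.frob X p) H (W ⊓ W₀) (Var76.LineBundle.res H inf_le_right n) from e1, ← ha,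
        Amp73.pullS_smul, FrobSch.frob_app]
      show germM T (W ⊓ W₀) (genericPoint X) hm ((a ^ p : Γ(X, W ⊓ W₀)) • _) = _
      rw [germM_smul, map_pow]
      congr 1
      rw [← e2]
      exact germM_res (M := T) (inf_le_left : W ⊓ W₀ ≤ W) hm _
  have hη : Framed H (genericPoint X) := framed_of_isRef1 hN hH (Or.inl rfl)
  have hw : w ≠ 0 := by
    obtain ⟨W, hW, e, he⟩ := hη
    obtain ⟨φ, hφ, -, hw⟩ := key W hW e he
    rw [hw]
    intro h0
    exact pow_ne_zero p hφ ((isGen_germM (Props58.PullTensor.isFrame_pullS (FrobSch.frob X p) he) hW).1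
      (h0.trans (zero_smul (X.presheaf.stalk (genericPoint X)) _).symm))
  obtain ⟨hR, w', hw', hord⟩ := exists_hull_sord hT (hfr _ hη) hw
  refine ⟨hR, w', hw', fun x hc => ?_⟩
  obtain ⟨W, hx, e, he⟩ := framed_of_isRef1 hN hH (Or.inr hc)
  obtain ⟨φ, hφ, h1, h2⟩ := key W (genericPoint_mem hx) e he
  have e3 := hord x hc (hfr x ⟨W, hx, e, he⟩)
  show sord (RefHull.ddual T) x w' = _
  rw [e3, h2, show (ConcreteCategory.hom (H.presheaf.germ W₀ (genericPoint X) hη₀)) n =
      germM H W₀ (genericPoint X) hη₀ n from rfl, h1, sord_frame he _ hx hc φ hφ]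
  exact (sord_frame (F := T) (Props58.PullTensor.isFrame_pullS (FrobSch.frob X p) he) (genericPoint_mem hx) hx hc
      (φ ^ p) (pow_ne_zero p hφ)).trans (ord_pow_nat φ hφ hc p)

omit p [Fact p.Prime] [FrobSch.IsCharP X p] in
theorem exists_refPow_sord (hN : Pi1.IsNormalScheme X) {F : X.Modules} (hF : RefHull.IsRef1 F)
    {v : F.presheaf.stalk (genericPoint X)} (hv : v ≠ 0) : ∀ k : ℕ,
    RefHull.IsRef1 (RefPow.refPow F k) ∧ ∃ w : (RefPow.refPow F k).presheaf.stalk (genericPoint X), w ≠ 0 ∧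
      ∀ x : X, Order.coheight x = 1 → sord (RefPow.refPow F k) x w = (k : ℤ) * sord F x v
  | 0 => by
    obtain ⟨o, ho, hox⟩ := exists_unit_section (X := X)
    exact ⟨isRef1_structureModule, o, ho, fun x hc => by rw [Nat.cast_zero, zero_mul]; exact hox x hc⟩
  | 1 => ⟨hF, v, hv, fun x _ => by rw [Nat.cast_one, one_mul]; rfl⟩
  | k + 2 => by
    obtain ⟨hR, w, hw, hx⟩ := exists_refPow_sord hN hF hv (k + 1)
    obtain ⟨hR', z, hz, hzx⟩ := exists_refTensor hN hR hF hw hv
    refine ⟨hR', z, hz, fun x hc => ?_⟩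
    rw [show sord (RefPow.refPow F (k + 2)) x z = _ from hzx x hc, hx x hc]
    push_cast; ring

omit [Fact p.Prime] [FrobSch.IsCharP X p] in
theorem transport_sord (hN : Pi1.IsNormalScheme X) {F G : X.Modules} (e : F ≅ G) (hF : RefHull.IsRef1 F)
    (hG : Coh.IsCoh G) {v : F.presheaf.stalk (genericPoint X)} (hv : v ≠ 0) :
    RefHull.IsRef1 G ∧ ∃ w : G.presheaf.stalk (genericPoint X), w ≠ 0 ∧
      ∀ x : X, Order.coheight x = 1 → sord G x w = sord F x v := by
  have hb := fun x => bijective_stalk_iso e x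
  have hfη := framed_of_isRef1 hN hF (Or.inl rfl : genericPoint X = genericPoint X ∨ _)
  refine ⟨isRef1_of_framed hG (fun x => ?_) (framed_of_bijective hG e.hom hfη (hb _)),
    RefHull.stalkMapₗ e.hom (genericPoint X) v, fun h0 => hv ((hb _).1 (h0.trans (map_zero _).symm)),
    fun x hc => sord_map _ hc (framed_of_isRef1 hN hF (Or.inr hc)) (hb x) (hb _).1 hv⟩
  haveI : Module.IsReflexive (X.presheaf.stalk x) (F.presheaf.stalk x) := stalks_reflexive hF x
  exact Module.IsReflexive.of_split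
    (LinearEquiv.ofBijective (RefHull.stalkMapₗ e.hom x) (hb x)).symm.toLinearMap
    (LinearEquiv.ofBijective (RefHull.stalkMapₗ e.hom x) (hb x)).toLinearMap
    (LinearMap.ext fun z => (LinearEquiv.ofBijective (RefHull.stalkMapₗ e.hom x) (hb x)).apply_symm_apply z)

/-- The reflexive Frobenius pull-backs of a rank one reflexive module are its reflexive powers. -/
theorem frob_iso_refPow (hN : Pi1.IsNormalScheme X) {F : X.Modules} (hF : RefHull.IsRef1 F)
    (G : ℕ → X.Modules) (hG0 : G 0 = F)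
    (hG : ∀ m, Nonempty (G (m + 1) ≅ RefHull.ddual ((Scheme.Modules.pullback (FrobSch.frob X p)).obj (G m))))
    (m : ℕ) : Nonempty (G m ≅ RefPow.refPow F (p ^ m)) ∧ RefHull.IsRef1 (G m) := by
  obtain ⟨v, hv⟩ := exists_ne_zero hN hF
  have h : ∀ m, RefHull.IsRef1 (G m) ∧ ∃ w : (G m).presheaf.stalk (genericPoint X), w ≠ 0 ∧
      ∀ x : X, Order.coheight x = 1 → sord (G m) x w = ((p ^ m : ℕ) : ℤ) * sord F x v := by
    intro m
    induction m with
    | zero =>
      rw [hG0]
      exact ⟨hF, v, hv, fun x _ => by rw [pow_zero, Nat.cast_one, one_mul]⟩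
    | succ m ih =>
      obtain ⟨hR, w, hw, hx⟩ := ih
      obtain ⟨hR', w', hw', hx'⟩ := exists_frobPull_sord p hN hR hw
      obtain ⟨e⟩ := hG m
      haveI := hR'.1.1
      haveI := hR'.1.2
      obtain ⟨hR'', z, hz, hzx⟩ := transport_sord hN e.symm hR' (isCoh_of_iso e.symm hR'.1) hw'
      refine ⟨hR'', z, hz, fun x hc => ?_⟩
      rw [hzx x hc, hx' x hc, hx x hc]
      push_cast; ring
  obtain ⟨hR, w, hw, hx⟩ := h m
  obtain ⟨hP, z, hz, hzx⟩ := exists_refPow_sord hN hF hv (p ^ m)
  exact ⟨iso_of_sord hN hR hP hw hz fun x hc => by rw [hx x hc, hzx x hc], hR⟩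

end Groth.Agent.RefCh18
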