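import Groth.Agent.RefCh18.Tf
import Groth.Agent.Om3.ExtPowFrames
import Groth.Agent.Props58.LocFree.Affine
import Groth.Agent.QC70.FiniteType

/-! The determinant module has the determinant divisor. -/

set_option autoImplicit false
set_option backward.isDefEq.respectTransparency.types false
set_option linter.style.haveILetI false
universe u

open CategoryTheory CategoryTheory.Limits AlgebraicGeometry TopologicalSpace IsLocalRing Opposite

noncomputable section

namespace Groth.Agent.RefCh18

open Groth.Agent Groth.Agent.QC70 Groth.Agent.Props58.LocFree Groth.Agent.Div89 Groth.Agent.Div89.Ref1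

variable {X : Scheme.{u}} [IsIntegral X] [IsLocallyNoetherian X]

omit [IsIntegral X] in
theorem isCoh_of_isExtPow {p : ℕ} {E L : X.Modules} (hE : Coh.IsCoh E) (hL : ExtPow.IsExtPow p E L) :
    Coh.IsCoh L := by
  haveI : E.IsQuasicoherent := hE.1
  haveI : E.IsFiniteType := hE.2
  haveI := Om3.isQuasicoherent_of_isExtPow hL
  obtain ⟨ψ, -⟩ := Om3.exists_psi hL
  refine ⟨inferInstance, isFiniteType_of_finite_sections L (fun U : X.affineOpens => U.1) ?_ (fun U => U.2) fun U => ?_⟩
  · exact IsOpenCover.mk (eq_top_iff.2 fun x _ => by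
      obtain ⟨_, ⟨U, hU, rfl⟩, hxU, -⟩ :=
        X.isBasis_affineOpens.exists_subset_of_mem_open (Set.mem_univ x) isOpen_univ
      exact Opens.mem_iSup.2 ⟨⟨U, hU⟩, hxU⟩)
  · haveI : Module.Finite Γ(X, U.1) Γ(E, U.1) := finite_sections_of_isFiniteType E U.2
    exact Module.Finite.equiv (ψ U)

omit [IsIntegral X] [IsLocallyNoetherian X] in
/-- Bases of sections on smaller opens. -/
def secBasis {E : X.Modules} {D : X.Opens} {r : ℕ} {s : Fin r → Γ(E, D)} (hs : StalkBasis s) {W : X.Opens} (h : W ≤ D) :
    Module.Basis (Fin r) Γ(X, W) Γ(E, W) :=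
  Module.Basis.ofEquivFun (LinearEquiv.ofBijective
    (Fintype.linearCombination Γ(X, W) fun j => res E h (s j)) (by
      refine (congrArg Function.Bijective (funext fun a => ?_)).mp (hs.bijective h)
      simp [Fintype.linearCombination_apply])).symm

omit [IsIntegral X] [IsLocallyNoetherian X] in
theorem secBasis_apply {E : X.Modules} {D : X.Opens} {r : ℕ} {s : Fin r → Γ(E, D)} (hs : StalkBasis s) {W : X.Opens}
    (h : W ≤ D) (j : Fin r) : secBasis hs h j = res E h (s j) := by
  classical
  rw [secBasis, Module.Basis.coe_ofEquivFun, LinearEquiv.symm_symm]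
  show Fintype.linearCombination Γ(X, W) (fun j => res E h (s j)) (Pi.single j 1) = _
  rw [Fintype.linearCombination_apply_single, one_smul]

omit [IsIntegral X] [IsLocallyNoetherian X] in
/-- Wedges in terms of the wedge of a basis. -/
theorem ιMulti_eq_det_smul {R E : Type u} [CommRing R] [AddCommGroup E] [Module R E] {r : ℕ}
    (b : Module.Basis (Fin r) R E) (t : Fin r → E) :
    exteriorPower.ιMulti R r t = b.det t • exteriorPower.ιMulti R r b := by
  obtain ⟨a, ha⟩ := (Om3.DetSeq.bijective_smul_top b).2 (exteriorPower.ιMulti R r t)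
  replace ha : a • exteriorPower.ιMulti R r b = exteriorPower.ιMulti R r t := ha
  have h := congrArg (exteriorPower.alternatingMapLinearEquiv b.det) ha
  rw [map_smul, exteriorPower.alternatingMapLinearEquiv_apply_ιMulti, exteriorPower.alternatingMapLinearEquiv_apply_ιMulti,
    Module.Basis.det_self, smul_eq_mul, mul_one] at h
  rw [← h]
  exact ha.symm

/-- The determinant module carries a section with the determinant divisor. -/
theorem exists_wedge_sord (hN : Pi1.IsNormalScheme X) {r : ℕ} {F W : X.Modules} (hF : Coh.IsCoh F)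
    (htf : TorSh.IsTorsionFree F) (hW : ExtPow.IsExtPow r F W)
    (v : Module.Basis (Fin r) (X.presheaf.stalk (genericPoint X)) (F.presheaf.stalk (genericPoint X))) :
    RefHull.IsRef1 (RefHull.ddual W) ∧
    ∃ w : (RefHull.ddual W).presheaf.stalk (genericPoint X), w ≠ 0 ∧ DetDiv hF htf v (RefHull.ddual W) w := by
  haveI : F.IsQuasicoherent := hF.1
  have hWc := isCoh_of_isExtPow hF hW
  haveI : W.IsQuasicoherent := hWc.1
  obtain ⟨φ, hφ⟩ := Om3.exists_psi hW
  have charts : ∀ x : X, x = genericPoint X ∨ Order.coheight x = 1 →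
      ∃ (D : X.affineOpens) (s : Fin r → Γ(F, D.1)), x ∈ D.1 ∧ StalkBasis s := by
    intro x hx
    have hfree : Module.Free (X.presheaf.stalk x) (F.presheaf.stalk x) := by
      rcases hx with rfl | hc
      · exact Module.Free.of_basis v
      · exact Module.Free.of_basis (exists_basis_codim_one hN hF htf v hc).some
    obtain ⟨U, m, hxU, ⟨i⟩⟩ := exists_nhd_free_of_free_stalk hF hfree
    obtain ⟨s, hs⟩ := exists_stalkBasis_of_iso i
    obtain ⟨_, ⟨D, hD, rfl⟩, hxD, hDU⟩ :=
      X.isBasis_affineOpens.exists_subset_of_mem_open hxU U.2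
    have hs' := hs.restrict (show D ≤ U from hDU)
    have hm : m = r := by
      let e := Module.Basis.ofEquivFun (hs'.stalkEquiv x hxD).symm
      simpa using Fintype.card_congr ((bη hF htf e).indexEquiv v)
    subst hm
    exact ⟨⟨D, hD⟩, _, hxD, hs'⟩
  obtain ⟨D₀, s₀, hη₀, hs₀⟩ := charts (genericPoint X) (Or.inl rfl)
  have hlift : ∃ (O : X.affineOpens) (hO : genericPoint X ∈ O.1) (t : Fin r → Γ(F, O.1)),
      ∀ i, germM F O.1 (genericPoint X) hO (t i) = v i := by
    choose V hV t ht using fun i => F.presheaf.exists_germ_eq (x := genericPoint X) (v i)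
    obtain ⟨_, ⟨O, hO, rfl⟩, hηO, hOV⟩ :=
      X.isBasis_affineOpens.exists_subset_of_mem_open (a := genericPoint X) (u := ⋂ i, (V i : Set X))
        (Set.mem_iInter.2 hV) (isOpen_iInter_of_finite fun i => (V i).2)
    refine ⟨⟨O, hO⟩, hηO, fun i => res F (fun z hz => Set.mem_iInter.1 (hOV hz) i) (t i), fun i => ?_⟩
    rw [germM_res]
    exact ht i
  obtain ⟨O, hηO, t, ht⟩ := hlift
  let ω : Γ(W, O.1) := φ O (exteriorPower.ιMulti _ r t)
  let w : W.presheaf.stalk (genericPoint X) := germM W O.1 (genericPoint X) hηO ω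
  have frame : ∀ (D : X.affineOpens) (s : Fin r → Γ(F, D.1)), StalkBasis s →
      Var76.LineBundle.IsFrame W D.1 (φ D (exteriorPower.ιMulti _ r s)) := by
    intro D s hs
    let b := secBasis hs (le_refl D.1)
    have hb : (⇑b : Fin r → Γ(F, D.1)) = s := funext fun j => (secBasis_apply hs _ j).trans (res_self _)
    let γ : Γ(W, D.1) := φ D (exteriorPower.ιMulti _ r s)
    have hbij : Function.Bijective fun a : Γ(X, D.1) => a • γ := by
      have : (fun a : Γ(X, D.1) => a • γ) = φ D ∘ fun a => a • exteriorPower.ιMulti _ r b := funext fun a => by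
        show a • γ = φ D (a • exteriorPower.ιMulti _ r b)
        rw [map_smul, hb]
      rw [this]
      exact (φ D).bijective.comp (Om3.DetSeq.bijective_smul_top b)
    let bW : Module.Basis (Fin 1) Γ(X, D.1) Γ(W, D.1) := Module.Basis.ofEquivFun
      ((LinearEquiv.ofBijective (LinearMap.toSpanSingleton Γ(X, D.1) _ γ) hbij).symm.trans
        (LinearEquiv.funUnique (Fin 1) Γ(X, D.1) Γ(X, D.1)).symm)
    have hbW : bW 0 = γ := by
      rw [Module.Basis.coe_ofEquivFun]
      show (LinearMap.toSpanSingleton Γ(X, D.1) _ γ) _ = γ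
      simp
    have hSB : StalkBasis fun i => bW i := stalkBasis_of_basis D.2 bW
    intro V hV
    have h1 := (hSB.bijective hV).comp (Equiv.funUnique (Fin 1) Γ(X, V)).symm.bijective
    convert h1 using 1
    funext a
    simp [hbW, γ, QC70.res, Var76.LineBundle.res]
  have hη : Framed W (genericPoint X) := ⟨D₀.1, hη₀, _, frame D₀ s₀ hs₀⟩
  have coords : ∀ (D : X.affineOpens) (s : Fin r → Γ(F, D.1)) (hs : StalkBasis s) (hηD : genericPoint X ∈ D.1)
      (x : X) (hx : x ∈ D.1) (e : Module.Basis (Fin r) (X.presheaf.stalk x) (F.presheaf.stalk x)),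
      (∀ j, e j = germM F D.1 x hx (s j)) →
      w = ((bη hF htf e).det v) • germM W D.1 (genericPoint X) hηD (φ D (exteriorPower.ιMulti _ r s)) := by
    intro D s hs hηD x hx e he
    obtain ⟨_, ⟨Q, hQ, rfl⟩, hηQ, hQle⟩ :=
      X.isBasis_affineOpens.exists_subset_of_mem_open (a := genericPoint X) (u := (O.1 ⊓ D.1 : X.Opens))
        ⟨hηO, hηD⟩ (O.1 ⊓ D.1).2
    let Q' : X.affineOpens := ⟨Q, hQ⟩
    have hQO : Q'.1 ≤ O.1 := fun z hz => (hQle hz).1
    have hQD : Q'.1 ≤ D.1 := fun z hz => (hQle hz).2
    let b := secBasis hs hQD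
    have e1 : res W hQO ω = b.det (fun i => res F hQO (t i)) •
        res W hQD (φ D (exteriorPower.ιMulti _ r s)) := by
      refine ((hφ O Q' hQO _).trans (congrArg (φ Q') (Om3.resExt_ιMulti F hQO t))).trans ?_
      show φ Q' (exteriorPower.ιMulti _ r fun i => res F hQO (t i)) = _
      rw [ιMulti_eq_det_smul b, map_smul, show (⇑b : Fin r → Γ(F, Q'.1)) = fun i => res F hQD (s i) from
        funext fun j => secBasis_apply hs hQD j]
      exact congrArg _ ((hφ D Q' hQD _).trans (congrArg (φ Q') (Om3.resExt_ιMulti F hQD s))).symm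
    have e2 : X.presheaf.germ Q'.1 (genericPoint X) hηQ (b.det fun i => res F hQO (t i)) = (bη hF htf e).det v := by
      rw [Module.Basis.det_apply, Module.Basis.det_apply, RingHom.map_det]
      congr 1
      ext i j
      simp only [Module.Basis.toMatrix_apply, RingHom.mapMatrix_apply, Matrix.map_apply]
      have hj : v j = ∑ k, X.presheaf.germ Q'.1 (genericPoint X) hηQ (b.repr (res F hQO (t j)) k) • bη hF htf e k := by
        have h := congrArg (germM F Q'.1 (genericPoint X) hηQ) (b.sum_repr (res F hQO (t j))).symm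
        rw [germM_sum] at h
        rw [← ht j]
        refine (germM_res hQO hηQ (t j)).symm.trans (h.trans (Finset.sum_congr rfl fun k _ => ?_))
        rw [germM_smul, secBasis_apply, germM_res, bη_apply, he, toη_germ]
      rw [hj, Module.Basis.repr_sum_self]
    rw [← e2]
    show germM W O.1 (genericPoint X) hηO ω = _
    rw [← germM_res hQO hηQ ω, e1, germM_smul, germM_res]
  have hw : w ≠ 0 := by
    let e := Module.Basis.ofEquivFun (hs₀.stalkEquiv (genericPoint X) hη₀).symm
    have he : ∀ j, e j = germM F D₀.1 (genericPoint X) hη₀ (s₀ j) := fun j => by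
      classical
      rw [Module.Basis.coe_ofEquivFun]
      show germComb s₀ _ hη₀ (Pi.single j 1) = _
      exact (Finset.sum_eq_single j (fun b _ hb => by rw [Pi.single_eq_of_ne hb, zero_smul])
        (fun h => absurd (Finset.mem_univ _) h)).trans (by rw [Pi.single_eq_same, one_smul])
    rw [coords D₀ s₀ hs₀ hη₀ _ hη₀ e he]
    intro h0
    exact (Module.Basis.isUnit_det (bη hF htf e) v).ne_zero
      ((isGen_germM (frame D₀ s₀ hs₀) hη₀).1 (h0.trans (zero_smul (X.presheaf.stalk (genericPoint X)) _).symm))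
  obtain ⟨hR, w', hw', hx'⟩ := exists_hull_sord hWc hη hw
  refine ⟨hR, w', hw', fun x hc e' => ?_⟩
  obtain ⟨D, s, hx, hs⟩ := charts x (Or.inr hc)
  let e := Module.Basis.ofEquivFun (hs.stalkEquiv x hx).symm
  have he : ∀ j, e j = germM F D.1 x hx (s j) := fun j => by
    classical
    rw [Module.Basis.coe_ofEquivFun]
    show germComb s _ hx (Pi.single j 1) = _
    exact (Finset.sum_eq_single j (fun b _ hb => by rw [Pi.single_eq_of_ne hb, zero_smul])
      (fun h => absurd (Finset.mem_univ _) h)).trans (by rw [Pi.single_eq_same, one_smul])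
  have hd0 : ((bη hF htf e).det v : X.functionField) ≠ 0 := (Module.Basis.isUnit_det _ _).ne_zero
  rw [hx' x hc ⟨D.1, hx, _, frame D s hs⟩, coords D s hs (Groth.Agent.Div89.genericPoint_mem hx) x hx e he,
    ord_det_change hF htf hc e' e hd0]
  exact sord_frame (frame D s hs) _ hx hc _ hd0

end Groth.Agent.RefCh18
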