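import Groth.Agent.RefCh18.Sum
import Groth.Agent.Cyc90.FieldSetup
import Groth.Agent.FGA29.IntNumBasic
import Groth.Agent.FGA29.IntNumCurves
import Groth.Agent.Var76.FibreBound

/-! Euler characteristics of iterated first Chern classes of reflexive powers. -/

set_option autoImplicit false
set_option backward.isDefEq.respectTransparency.types false
set_option linter.style.haveILetI false
universe u

open CategoryTheory CategoryTheory.Limits AlgebraicGeometry TopologicalSpace Filter

noncomputable section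

namespace Groth.Agent.RefCh18

open Groth.Agent Groth.Agent.Cyc90 Groth.Agent.Cyc90.Dev

variable (k : Type u) [Field k] {X : Scheme.{u}} [X.Over (Spec (CommRingCat.of k))]
  [IsProper (X ↘ Spec (CommRingCat.of k))] {δ : X → ℤ} {n : ℤ}

/-- The Euler characteristic on classes. -/
def chiHom (hD : Cyc.DeltaCompat (X ↘ Spec (CommRingCat.of k)) δ (fun _ => 0)) (hX : Cyc.IsSetup X δ) :
    KZero.K0sub (Cyc.CohLe δ n) →+ ℤ :=
  QuotientAddGroup.lift _ (FreeAbelianGroup.lift fun F => Curv2.euler k X F.1) (by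
    refine (AddSubgroup.closure_le _).2 ?_
    rintro _ ⟨S, h1, h2, h3, hS, rfl⟩
    rw [SetLike.mem_coe, AddMonoidHom.mem_ker, map_sub, map_sub, FreeAbelianGroup.lift_apply_of,
      FreeAbelianGroup.lift_apply_of, FreeAbelianGroup.lift_apply_of]
    have e := euler_shortExact k hD hX hS h1 h2 h3
    dsimp only
    omega)

theorem chiHom_clSub (hD : Cyc.DeltaCompat (X ↘ Spec (CommRingCat.of k)) δ (fun _ => 0)) (hX : Cyc.IsSetup X δ)
    {F : X.Modules} (hF : Cyc.CohLe δ n F) :
    chiHom k hD hX (KZero.clSub (Cyc.CohLe δ n) F) = Curv2.euler k X F := by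
  rw [KCohDev46.clSub_eq _ hF]
  exact FreeAbelianGroup.lift_apply_of _ _

theorem chiHom_capHom (hD : Cyc.DeltaCompat (X ↘ Spec (CommRingCat.of k)) δ (fun _ => 0)) (hX : Cyc.IsSetup X δ)
    {r : ℕ} (M : Fin r → X.Modules) (hM : ∀ i, PicF.IsInvertible (M i)) {F : X.Modules} (hF : Cyc.CohLe δ n F) :
    chiHom k hD hX (capHom hX M hM (KZero.clSub (Cyc.CohLe δ n) F)) = intE k M F := by
  rw [capHom_clSub hX M hM hF, map_sum, intE]
  refine Finset.sum_congr rfl fun I _ => ?_
  rw [map_zsmul, chiHom_clSub k hD hX (cohLe_tensor_left hX (isInvertible_famTensor hM I) hF), smul_eq_mul]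

omit [IsProper (X ↘ Spec (CommRingCat.of k))] in
theorem tdegN_generic [IsIntegral X] [NoetherianSpace X] [LocallyOfFiniteType (X ↘ Spec (CommRingCat.of k))] :
    topologicalKrullDim X = (WC97.tdegN (X ↘ Spec (CommRingCat.of k)) (genericPoint X) : ℕ) := by
  obtain ⟨x, hx, h⟩ := Var76.FibreBound.exists_tdegN_eq_dim (X ↘ Spec (CommRingCat.of k))
  rwa [hx _ ((genericPoint_spec X).specializes (Set.mem_univ x))]

section RefPow

variable {X : Scheme.{u}} [IsIntegral X] [IsLocallyNoetherian X] {δ : X → ℤ}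

theorem isRef1_refPow (hN : Pi1.IsNormalScheme X) {F : X.Modules} (hF : RefHull.IsRef1 F) :
    ∀ m : ℕ, RefHull.IsRef1 (RefPow.refPow F m)
  | 0 => Groth.Agent.Div89.Ref1.isRef1_structureModule
  | 1 => hF
  | m + 2 => isRef1_refTensor hN (isRef1_refPow hN hF (m + 1)) hF

theorem refPow_mem (hN : Pi1.IsNormalScheme X) (hX : Cyc.IsSetup X δ) (hn : δ (genericPoint X) = n)
    {F : X.Modules} (hF : RefHull.IsRef1 F) : ∀ m : ℕ,
    (KZero.clSub (Cyc.CohLe δ n) (Coh.structureModule X) - KZero.clSub (Cyc.CohLe δ n) (RefPow.refPow F m)) -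
      (m : ℤ) • (KZero.clSub (Cyc.CohLe δ n) (Coh.structureModule X) - KZero.clSub (Cyc.CohLe δ n) F) ∈
      filt δ n (n - 2)
  | 0 => by simp [RefPow.refPow]
  | 1 => by simp [RefPow.refPow]
  | m + 2 => by
    have h1 := refPow_mem hN hX hn hF (m + 1)
    have h2 := refTensor_mem hN hX hn (isRef1_refPow hN hF (m + 1)) hF
    have := add_mem h2 h1
    rw [RefPow.refPow_succ_succ]
    convert this using 1
    push_cast
    rw [add_smul, add_smul]
    abel

end RefPow

theorem tendsto_affine_div_sq (α β : ℝ) :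
    Tendsto (fun m : ℕ => (2 : ℝ) * (α - (m : ℝ) * β) / ((m : ℝ) ^ 2)) atTop (nhds 0) := by
  have h1 : Tendsto (fun m : ℕ => ((m : ℝ))⁻¹) atTop (nhds 0) :=
    tendsto_inv_atTop_zero.comp tendsto_natCast_atTop_atTop
  have h2 := ((h1.mul h1).const_mul (2 * α)).sub (h1.const_mul (2 * β))
  simp only [mul_zero, sub_zero] at h2
  refine h2.congr' ?_
  filter_upwards [eventually_ne_atTop 0] with m hm
  have : (m : ℝ) ≠ 0 := Nat.cast_ne_zero.2 hm
  field_simp

end Groth.Agent.RefCh18
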