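import Groth.Agent.RefCh18.Hull
import Groth.Agent.RefCh18.Pair
import Groth.Agent.VarNormal.Scheme
import Groth.Agent.VarBranch.PerfectNormal
import Groth.Agent.FBase64.Geometric
import Groth.Agent.FBase64.ProductDim
import Groth.Agent.Sk62.GeomRk
import Groth.Agent.HP96.FieldExt
import Groth.Agent.Desc59.AmpleDesc
import Groth.Agent.S6874

/-! Reflexive Frobenius pull-backs and extension of the ground field. -/

set_option autoImplicit false
set_option backward.isDefEq.respectTransparency.types false
set_option linter.style.haveILetI false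
universe u

open CategoryTheory CategoryTheory.Limits AlgebraicGeometry TopologicalSpace IsLocalRing

noncomputable section

namespace Groth.Agent.RefCh18

open Groth.Agent Groth.Agent.QC70 Groth.Agent.Props58.LocFree Groth.Agent.Div89 Groth.Agent.Div89.Ref1

variable (k : Type u) [Field k] [IsAlgClosed k] (X : Scheme.{u}) [X.Over (Spec (CommRingCat.of k))]
  (K : Type u) [Field K] [Algebra k K]

theorem flat_bcFst : Flat (Curv2.bcFst k X K) := by
  haveI : Flat (Spec.map (CommRingCat.ofHom (algebraMap k K))) := Var76.FibBC.flat_of_field _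
  exact inferInstanceAs (Flat (pullback.fst _ _))

theorem isNormal_bc [LocallyOfFiniteType (X ↘ Spec (CommRingCat.of k))] (hN : Pi1.IsNormalScheme X) :
    Pi1.IsNormalScheme (Curv2.bc k X K) :=
  VarNormal.isNormalScheme_bc K fun A _ _ j _ hj => by
    have h : LocallyOfFiniteType (Spec.map (CommRingCat.ofHom (algebraMap k A))) := hj ▸ inferInstance
    haveI : Algebra.FiniteType k A := RingHom.finiteType_algebraMap.1
      ((HasRingHomProperty.Spec_iff (P := @LocallyOfFiniteType)).1 h)
    exact VarBranch.isNormalRing_baseChange k A K (VarNormal.isNormalRing_of_chart j hN)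

theorem isIntegral_bc_of_normal [IsIntegral X] [LocallyOfFiniteType (X ↘ Spec (CommRingCat.of k))]
    (hN : Pi1.IsNormalScheme X) : IsIntegral (Curv2.bc k X K) := by
  haveI : IrreducibleSpace (Curv2.bc k X K) := by
    have h := FBase64.isIrreducible_preimage_fst (X ↘ Spec (CommRingCat.of k)) (algebraMap k K)
      (IrreducibleSpace.isIrreducible_univ X)
    rw [Set.preimage_univ] at h
    exact (irreducibleSpace_def _).2 h
  haveI : ∀ y : Curv2.bc k X K, _root_.IsReduced ((Curv2.bc k X K).presheaf.stalk y) := fun y => by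
    obtain ⟨_, _⟩ := isNormal_bc k X K hN y
    infer_instance
  haveI := AlgebraicGeometry.isReduced_of_isReduced_stalk (Curv2.bc k X K)
  exact isIntegral_of_irreducibleSpace_of_isReduced _

section Tensor

omit [IsAlgClosed k]
variable {X}

theorem nonempty_pullback_tensorList {Y : Scheme.{u}} (f : Y ⟶ X) : ∀ l : List X.Modules,
    Nonempty ((Scheme.Modules.pullback f).obj (FGA.tensorList l) ≅
      FGA.tensorList (l.map (Scheme.Modules.pullback f).obj))
  | [] => ⟨PicLoc.pullbackStructureIso f⟩
  | M :: l => by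
    obtain ⟨e⟩ := nonempty_pullback_tensorList f l
    exact ⟨Desc59.AmpleDesc.pullTensIso f M (FGA.tensorList l) ≪≫ EGA73.tensIso (Iso.refl _) e⟩

variable [IsProper (X ↘ Spec (CommRingCat.of k))]

theorem intE_bc {r : ℕ} {M : Fin r → X.Modules} (hM : ∀ i, PicF.IsInvertible (M i)) {G : X.Modules}
    (hG : Coh.IsCoh G) {G' : (Curv2.bc k X K).Modules}
    (e : G' ≅ (Scheme.Modules.pullback (Curv2.bcFst k X K)).obj G) :
    letI : (Curv2.bc k X K).Over (Spec (CommRingCat.of K)) := ⟨Curv2.bcSnd k X K⟩
    Cyc90.Dev.intE K (fun i => (Scheme.Modules.pullback (Curv2.bcFst k X K)).obj (M i)) G' =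
      Cyc90.Dev.intE k M G := by
  letI : (Curv2.bc k X K).Over (Spec (CommRingCat.of K)) := ⟨Curv2.bcSnd k X K⟩
  refine Finset.sum_congr rfl fun I _ => congrArg _ ?_
  obtain ⟨t⟩ := nonempty_pullback_tensorList (Curv2.bcFst k X K) ((I.sort (· ≤ ·)).map M)
  rw [List.map_map] at t
  rw [← HP96.euler_bc (k := k) (K := K) (Amp73.isCoh_tensorMod
    (Amp73.isCoh_of_isInvertible (Cyc90.Dev.isInvertible_famTensor hM I)) hG)]
  exact Crv77.euler_congr (EGA73.tensIso t.symm e ≪≫
    (Desc59.AmpleDesc.pullTensIso (Curv2.bcFst k X K) _ G).symm)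

end Tensor

section Frob

variable {X} [IsIntegral X] [IsLocallyNoetherian X] (p : ℕ) [Fact p.Prime] [FrobSch.IsCharP X p]

omit [IsAlgClosed k] [X.Over (Spec (CommRingCat.of k))] in
theorem frobPull_reflexive {E : X.Modules} (hE : Coh.IsCoh E) (hEr : RefHull.IsReflexive E)
    (G : ℕ → X.Modules) (hG0 : G 0 = E)
    (hG : ∀ m, Nonempty (G (m + 1) ≅ RefHull.ddual ((Scheme.Modules.pullback (FrobSch.frob X p)).obj (G m)))) :
    ∀ m, Coh.IsCoh (G m) ∧ ∀ x : X, RefHull.IsReflexiveAt (G m) x
  | 0 => hG0 ▸ ⟨hE, (isReflexive_iff_forall_isReflexiveAt E hE).1 hEr⟩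
  | m + 1 => by
    obtain ⟨e⟩ := hG m
    have hT := Groth.Agent.ConsProp93.isCoh_pullback (FrobSch.frob X p) (frobPull_reflexive hE hEr G hG0 hG m).1
    refine ⟨Crv77.isCoh_of_iso e.symm (isCoh_dual _ (isCoh_dual _ hT)), fun x => ?_⟩
    haveI : Module.IsReflexive (X.presheaf.stalk x) ((RefHull.ddual
      ((Scheme.Modules.pullback (FrobSch.frob X p)).obj (G m))).presheaf.stalk x) := isReflexiveAt_ddual _ hT x
    let l := LinearEquiv.ofBijective (RefHull.stalkMapₗ e.hom x) (bijective_stalk_iso e x)
    exact Module.IsReflexive.of_split l.toLinearMap l.symm.toLinearMap (LinearMap.ext fun z => l.symm_apply_apply z)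

theorem frobPull_bc [LocallyOfFiniteType (X ↘ Spec (CommRingCat.of k))] (hN : Pi1.IsNormalScheme X)
    [IsIntegral (Curv2.bc k X K)] [IsLocallyNoetherian (Curv2.bc k X K)]
    [FrobSch.IsCharP (Curv2.bc k X K) p] {E : X.Modules} (hE : Coh.IsCoh E) (hEr : RefHull.IsReflexive E)
    (G : ℕ → X.Modules) (hG0 : G 0 = E)
    (hG : ∀ m, Nonempty (G (m + 1) ≅ RefHull.ddual ((Scheme.Modules.pullback (FrobSch.frob X p)).obj (G m))))
    (G' : ℕ → (Curv2.bc k X K).Modules) (hG'0 : G' 0 = (Scheme.Modules.pullback (Curv2.bcFst k X K)).obj E)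
    (hG' : ∀ m, Nonempty (G' (m + 1) ≅ RefHull.ddual ((Scheme.Modules.pullback (FrobSch.frob (Curv2.bc k X K) p)).obj (G' m)))) :
    ∀ m, Nonempty (G' m ≅ (Scheme.Modules.pullback (Curv2.bcFst k X K)).obj (G m))
  | 0 => ⟨eqToIso (by rw [hG'0, hG0])⟩
  | m + 1 => by
    haveI := flat_bcFst k X K
    have hNK := isNormal_bc k X K hN
    let π := Curv2.bcFst k X K
    obtain ⟨hc, hr⟩ := frobPull_reflexive p hE hEr G hG0 hG m
    obtain ⟨hc1, hr1⟩ := frobPull_reflexive p hE hEr G hG0 hG (m + 1)
    obtain ⟨em⟩ := frobPull_bc hN hE hEr G hG0 hG G' hG'0 hG' m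
    obtain ⟨e⟩ := hG m
    obtain ⟨e'⟩ := hG' m
    let FX := FrobSch.frob X p
    let FK := FrobSch.frob (Curv2.bc k X K) p
    let T := (Scheme.Modules.pullback FX).obj (G m)
    have hT : Coh.IsCoh T := Groth.Agent.ConsProp93.isCoh_pullback _ hc
    let A := (Scheme.Modules.pullback FK).obj (G' m)
    let B := (Scheme.Modules.pullback π).obj (G (m + 1))
    have hA : Coh.IsCoh A := Groth.Agent.ConsProp93.isCoh_pullback _
      (Crv77.isCoh_of_iso em.symm (Groth.Agent.ConsProp93.isCoh_pullback _ hc))
    have hB : Coh.IsCoh B := Groth.Agent.ConsProp93.isCoh_pullback _ hc1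
    let θ : A ≅ (Scheme.Modules.pullback π).obj T :=
      (Scheme.Modules.pullback FK).mapIso em ≪≫ (Scheme.Modules.pullbackComp FK π).app (G m) ≪≫
        (Scheme.Modules.pullbackCongr (FrobSch.frob_comp (p := p) π)).app (G m) ≪≫
        ((Scheme.Modules.pullbackComp π FX).app (G m)).symm
    let φ : T ⟶ G (m + 1) := RefHull.bidualMap T ≫ e.inv
    have hBr : ∀ y, RefHull.IsReflexiveAt B y := by
      intro y
      haveI : (G (m + 1)).IsQuasicoherent := hc1.1
      haveI : (G (m + 1)).IsFiniteType := hc1.2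
      obtain ⟨_, _⟩ := hN (π y)
      obtain ⟨_, _⟩ := hNK y
      letI := (π.stalkMap y).hom.toAlgebra
      letI := Module.compHom (B.presheaf.stalk y) (π.stalkMap y).hom
      haveI : IsScalarTower (X.presheaf.stalk (π y)) ((Curv2.bc k X K).presheaf.stalk y) (B.presheaf.stalk y) :=
        IsScalarTower.of_algebraMap_smul fun r e => rfl
      haveI : Module.Flat (X.presheaf.stalk (π y)) ((Curv2.bc k X K).presheaf.stalk y) := Flat.stalkMap π y
      haveI := finite_stalk_of_isFiniteType (M := G (m + 1)) (π y)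
      haveI : Module.IsReflexive (X.presheaf.stalk (π y)) ((G (m + 1)).presheaf.stalk (π y)) := hr1 (π y)
      have h := S6874.result (X.presheaf.stalk (π y)) ((Curv2.bc k X K).presheaf.stalk y)
        ((G (m + 1)).presheaf.stalk (π y))
      let E' := (DCK91.isBaseChange_pullη π (G (m + 1)) y).equiv
      exact @Module.IsReflexive.of_split _ _ _ _ _ _ _ _ h E'.symm.toLinearMap E'.toLinearMap
        (LinearMap.ext fun z => E'.apply_symm_apply z)
    have htf : TorSh.IsTorsionFree (G m) := fun x => torsionFree_of_reflexive (G m) hr x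
    haveI : Module.Free (X.presheaf.stalk (genericPoint X)) ((G m).presheaf.stalk (genericPoint X)) :=
      @Module.Free.of_divisionRing X.functionField _ _ _ _
    haveI : Module.Finite (X.presheaf.stalk (genericPoint X)) ((G m).presheaf.stalk (genericPoint X)) := by
      haveI := hc.1
      haveI := hc.2
      exact finite_stalk_of_isFiniteType (M := G m) _
    let v := Module.finBasisOfFinrankEq (X.presheaf.stalk (genericPoint X)) ((G m).presheaf.stalk (genericPoint X)) rfl
    have key : ∀ y : Curv2.bc k X K, (y = genericPoint (Curv2.bc k X K) ∨ Order.coheight y = 1) →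
        Function.Bijective (RefHull.stalkMapₗ (θ.hom ≫ (Scheme.Modules.pullback π).map φ) y) ∧
        Function.Bijective (RefHull.stalkMapₗ (RefHull.bidualMap A) y) := by
      intro y hy
      have hx : π y = genericPoint X ∨ Order.coheight (π y) = 1 := by
        rcases codim_cases (π y) with h | h | h
        · exact Or.inl h
        · exact Or.inr h
        · exfalso
          have h1 := h.trans (Sk62.ringKrullDim_le_of_flat π y)
          rcases hy with rfl | hy
          · rw [ringKrullDim_eq_zero_of_isField (show IsField ((Curv2.bc k X K).presheaf.stalk (genericPoint (Curv2.bc k X K))) from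
              Field.toIsField (Curv2.bc k X K).functionField)] at h1
            exact absurd h1 (by decide)
          · haveI := isDVR hNK hy
            have h2 : ringKrullDim ((Curv2.bc k X K).presheaf.stalk y) ≤ 1 := by simpa using Ring.krullDimLE_iff.1 (inferInstance : Ring.KrullDimLE 1 _)
            exact absurd (h1.trans h2) (by decide)
      obtain ⟨W, s, hxW, hs⟩ := exists_chart hN hc htf v hx
      have hsT := Pinch99.stalkBasis_pullS FX hs
      have hφ : ∀ z ∈ FX ⁻¹ᵁ W.1, Function.Bijective (RefHull.stalkMapₗ φ z) := fun z hz => by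
        rw [show φ = RefHull.bidualMap T ≫ e.inv from rfl, RefFun.stalkMapₗ_comp]
        exact (bijective_stalk_iso e.symm z).comp (bijective_bidual_chart hT hsT hz)
      refine ⟨?_, ?_⟩
      · rw [RefFun.stalkMapₗ_comp]
        exact (bijective_pullback_of_chart π φ hsT (stalkBasis_map φ hsT hφ) (y := y) hxW).comp
          (bijective_stalk_iso θ y)
      · have hsA := stalkBasis_map θ.inv (Pinch99.stalkBasis_pullS π hsT) fun z _ => bijective_stalk_iso θ.symm z
        exact bijective_bidual_chart hA hsA (x := y) hxW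
    obtain ⟨ε⟩ := nonempty_iso_ddual hNK hA hB hBr (θ.hom ≫ (Scheme.Modules.pullback π).map φ)
      (fun y hy => (key y hy).1) fun y hy => (key y hy).2
    exact ⟨e' ≪≫ ε⟩

end Frob

end Groth.Agent.RefCh18
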