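import Groth.Agent.RefCh18.Div
import Groth.Agent.Cyc90.Dev.IntNum
import Groth.Agent.Cyc90.Dev.TwistK
import Groth.Agent.CAlg9.FlatCofinite

/-! First Chern classes of invertible modules as operators lowering the dimension filtration. -/

set_option autoImplicit false
set_option backward.isDefEq.respectTransparency.types false
set_option linter.style.haveILetI false
universe u

open CategoryTheory CategoryTheory.Limits AlgebraicGeometry TopologicalSpace

noncomputable section

namespace Groth.Agent.RefCh18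

open Groth.Agent Groth.Agent.Cyc90 Groth.Agent.Cyc90.Dev

variable {X : Scheme.{u}} {δ : X → ℤ} {n : ℤ}

/-- The subgroup of classes of modules of dimension at most `m`. -/
def filt (δ : X → ℤ) (n m : ℤ) : AddSubgroup (KZero.K0sub (Cyc.CohLe δ n)) :=
  AddSubgroup.closure {c | ∃ F : X.Modules, Cyc.CohLe δ m F ∧ c = KZero.clSub (Cyc.CohLe δ n) F}

theorem toK_eq_iff {m : ℤ} {F G : X.Modules} :
    Cyc.toK0CohQuot δ n m F = Cyc.toK0CohQuot δ n m G ↔
      KZero.clSub (Cyc.CohLe δ n) F - KZero.clSub (Cyc.CohLe δ n) G ∈ filt δ n m :=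
  (QuotientAddGroup.eq_iff_sub_mem (N := filt δ n m))

theorem clSub_of_isZero {A : X.Modules} (hA : IsZero A) : KZero.clSub (Cyc.CohLe δ n) A = 0 := by
  have hS : (ShortComplex.mk (0 : A ⟶ A) (0 : A ⟶ A) comp_zero).ShortExact :=
    ShortComplex.Splitting.shortExact
      { r := 0
        s := 0
        f_r := hA.eq_of_src _ _
        s_g := hA.eq_of_src _ _
        id := hA.eq_of_src _ _ }
  exact left_eq_add.1 (KCohDev46.clSub_add (Cyc.CohLe δ n) _ hS (cohLe_of_isZero hA) (cohLe_of_isZero hA)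
    (cohLe_of_isZero hA))

theorem clSub_congr_iso {F G : X.Modules} (e : F ≅ G) (hF : Cyc.CohLe δ n F) (hG : Cyc.CohLe δ n G) :
    KZero.clSub (Cyc.CohLe δ n) F = KZero.clSub (Cyc.CohLe δ n) G := by
  obtain ⟨Z, hZ⟩ := HasZeroObject.zero (C := X.Modules)
  have hS : (ShortComplex.mk e.hom (0 : G ⟶ Z) comp_zero).ShortExact :=
    ShortComplex.Splitting.shortExact
      { r := e.inv
        s := 0
        f_r := e.hom_inv_id
        s_g := hZ.eq_of_src _ _
        id := by simp }
  have h := KCohDev46.clSub_add _ _ hS hF hG (cohLe_of_isZero hZ)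
  have h0 : KZero.clSub (Cyc.CohLe δ n) Z = 0 := clSub_of_isZero hZ
  simp only at h
  rw [h, h0, add_zero]

variable (hX : Cyc.IsSetup X δ)
include hX

/-- Tensoring with an invertible module on classes. -/
def tensOp {T : X.Modules} (hT : PicF.IsInvertible T) :
    KZero.K0sub (Cyc.CohLe δ n) →+ KZero.K0sub (Cyc.CohLe δ n) :=
  QuotientAddGroup.lift _ (FreeAbelianGroup.lift fun F =>
    KZero.clSub (Cyc.CohLe δ n) (CohB1.tensorMod T F.1)) (by
    refine (AddSubgroup.closure_le _).2 ?_
    rintro _ ⟨S, h1, h2, h3, hS, rfl⟩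
    rw [SetLike.mem_coe, AddMonoidHom.mem_ker, map_sub, map_sub, FreeAbelianGroup.lift_apply_of,
      FreeAbelianGroup.lift_apply_of, FreeAbelianGroup.lift_apply_of]
    obtain ⟨S', hS', e1, e2, e3⟩ :=
      Crv77.shortExact_twist (Mero90.isFinLocFreeOfRank_of_isInvertible hT) hS
    have key : ∀ A : X.Modules, Cyc.CohLe δ n A →
        KZero.clSub (Cyc.CohLe δ n) (CohB1.tensorMod T A) = KZero.clSub (Cyc.CohLe δ n) (CohB1.tensorMod A T) :=
      fun A hA => clSub_congr_iso (EGA73.tensComm T A) (cohLe_tensor_left hX hT hA) (cohLe_twist hT hA)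
    rw [key _ h1, key _ h2, key _ h3, ← e1, ← e2, ← e3,
      KCohDev46.clSub_add _ _ hS' (e1 ▸ cohLe_twist hT h1) (e2 ▸ cohLe_twist hT h2) (e3 ▸ cohLe_twist hT h3)]
    abel)

theorem tensOp_clSub {T : X.Modules} (hT : PicF.IsInvertible T) {F : X.Modules} (hF : Cyc.CohLe δ n F) :
    tensOp hX hT (KZero.clSub (Cyc.CohLe δ n) F) = KZero.clSub (Cyc.CohLe δ n) (CohB1.tensorMod T F) := by
  rw [KCohDev46.clSub_eq _ hF]
  exact FreeAbelianGroup.lift_apply_of _ _

theorem hom_ext_clSub {A : Type*} [AddCommGroup A] {f g : KZero.K0sub (Cyc.CohLe δ n) →+ A}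
    (h : ∀ F, Cyc.CohLe δ n F → f (KZero.clSub (Cyc.CohLe δ n) F) = g (KZero.clSub (Cyc.CohLe δ n) F)) :
    f = g := by
  refine QuotientAddGroup.addMonoidHom_ext _ (FreeAbelianGroup.lift_ext _ _ fun F => ?_)
  have := h F.1 F.2
  rwa [KCohDev46.clSub_eq _ F.2] at this

theorem tensOp_congr {T T' : X.Modules} (hT : PicF.IsInvertible T) (hT' : PicF.IsInvertible T')
    (e : T ≅ T') : (tensOp hX hT : KZero.K0sub (Cyc.CohLe δ n) →+ _) = tensOp hX hT' :=
  hom_ext_clSub hX fun F hF => by
    rw [tensOp_clSub hX hT hF, tensOp_clSub hX hT' hF]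
    exact clSub_congr_iso (EGA73.tensIso e (Iso.refl F)) (cohLe_tensor_left hX hT hF)
      (cohLe_tensor_left hX hT' hF)

theorem tensOp_unit (x : KZero.K0sub (Cyc.CohLe δ n)) :
    tensOp hX (EGA73.isInvertible_structureModule (X := X)) x = x := by
  have h : tensOp hX (EGA73.isInvertible_structureModule (X := X)) =
      AddMonoidHom.id (KZero.K0sub (Cyc.CohLe δ n)) := hom_ext_clSub hX fun F hF => by
    rw [tensOp_clSub hX _ hF]
    exact clSub_congr_iso (EGA73.tensUnitLeft F) (cohLe_tensor_left hX EGA73.isInvertible_structureModule hF) hF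
  rw [h]
  rfl

theorem tensOp_tensor {S T : X.Modules} (hS : PicF.IsInvertible S) (hT : PicF.IsInvertible T)
    (x : KZero.K0sub (Cyc.CohLe δ n)) :
    tensOp hX (EGA73.isInvertible_tensorMod hS hT) x = tensOp hX hS (tensOp hX hT x) := by
  have h : tensOp hX (EGA73.isInvertible_tensorMod hS hT) =
      (tensOp hX hS).comp (tensOp (n := n) hX hT) := hom_ext_clSub hX fun F hF => by
    rw [AddMonoidHom.comp_apply, tensOp_clSub hX _ hF, tensOp_clSub hX hT hF,
      tensOp_clSub hX hS (cohLe_tensor_left hX hT hF)]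
    exact clSub_congr_iso (EGA73.tensAssoc' S T F) (cohLe_tensor_left hX (EGA73.isInvertible_tensorMod hS hT) hF)
      (cohLe_tensor_left hX hS (cohLe_tensor_left hX hT hF))
  rw [h]
  rfl

/-- One minus tensoring with an invertible module. -/
def capOp {T : X.Modules} (hT : PicF.IsInvertible T) :
    KZero.K0sub (Cyc.CohLe δ n) →+ KZero.K0sub (Cyc.CohLe δ n) :=
  AddMonoidHom.id _ - tensOp hX hT

theorem capOp_apply {T : X.Modules} (hT : PicF.IsInvertible T) (x : KZero.K0sub (Cyc.CohLe δ n)) :
    capOp hX hT x = x - tensOp hX hT x := rfl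

theorem capOp_mem {T : X.Modules} (hT : PicF.IsInvertible T) {m : ℤ} (hm : m ≤ n)
    {x : KZero.K0sub (Cyc.CohLe δ n)} (hx : x ∈ filt δ n m) : capOp hX hT x ∈ filt δ n (m - 1) := by
  induction hx using AddSubgroup.closure_induction with
  | mem x hx =>
    obtain ⟨F, hF, rfl⟩ := hx
    rw [capOp_apply, tensOp_clSub hX hT (cohLe_mono hF hm), ← toK_eq_iff]
    refine toK_eq_of_stalk_equiv hX hF (cohLe_tensor_left hX hT hF) hm fun η _ => ?_
    obtain ⟨e⟩ := nonempty_stalk_equiv hT F η
    exact ⟨e.trans (LinearEquiv.ofBijective (QC70.stalkLinear (EGA73.tensComm F T).hom η)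
      ⟨QC70.injective_stalkMapM_of_mono _ η, QC70.surjective_stalkMapM_of_epi _ η⟩)⟩
  | zero => rw [map_zero]; exact zero_mem _
  | add x y _ _ hx hy => rw [map_add]; exact add_mem hx hy
  | neg x _ hx => rw [map_neg]; exact neg_mem hx

theorem tensOp_mem {T : X.Modules} (hT : PicF.IsInvertible T) {m : ℤ} (hm : m ≤ n)
    {x : KZero.K0sub (Cyc.CohLe δ n)} (hx : x ∈ filt δ n m) : tensOp hX hT x ∈ filt δ n m := by
  induction hx using AddSubgroup.closure_induction with
  | mem x hx =>
    obtain ⟨F, hF, rfl⟩ := hx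
    rw [tensOp_clSub hX hT (cohLe_mono hF hm)]
    exact AddSubgroup.subset_closure ⟨_, cohLe_tensor_left hX hT hF, rfl⟩
  | zero => rw [map_zero]; exact zero_mem _
  | add x y _ _ hx hy => rw [map_add]; exact add_mem hx hy
  | neg x _ hx => rw [map_neg]; exact neg_mem hx

omit hX in
theorem sum_fin_succ {A : Type*} [AddCommMonoid A] {r : ℕ} (f : Finset (Fin (r + 1)) → A) :
    ∑ I : Finset (Fin (r + 1)), f I = (∑ I : Finset (Fin r), f (I.map (Fin.succEmb r))) +
      ∑ I : Finset (Fin r), f (insert 0 (I.map (Fin.succEmb r))) := by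
  classical
  have hu : (Finset.univ : Finset (Fin (r + 1))) = insert 0 (Finset.univ.map (Fin.succEmb r)) := by
    ext a
    simp [em]
  rw [← Finset.powerset_univ, hu, Finset.sum_powerset_insert (notMem_zero_map_succ _),
    Finset.map_eq_image, Finset.powerset_image, Finset.sum_image, Finset.sum_image,
    Finset.powerset_univ]
  · simp only [← Finset.map_eq_image]
  · exact fun a _ b _ h => Finset.image_injective (Fin.succEmb r).injective h
  · exact fun a _ b _ h => Finset.image_injective (Fin.succEmb r).injective h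

/-- The iterated first Chern class of a family. -/
def capHom : ∀ {r : ℕ} (M : Fin r → X.Modules), (∀ i, PicF.IsInvertible (M i)) →
    (KZero.K0sub (Cyc.CohLe δ n) →+ KZero.K0sub (Cyc.CohLe δ n))
  | 0, _, _ => AddMonoidHom.id _
  | _ + 1, M, hM => (capHom (fun i => M i.succ) fun i => hM i.succ).comp (capOp hX (hM 0))

theorem capHom_clSub : ∀ {r : ℕ} (M : Fin r → X.Modules) (hM : ∀ i, PicF.IsInvertible (M i))
    {F : X.Modules}, Cyc.CohLe δ n F →
    capHom hX M hM (KZero.clSub (Cyc.CohLe δ n) F) =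
      ∑ I : Finset (Fin r), ((-1 : ℤ) ^ I.card) •
        KZero.clSub (Cyc.CohLe δ n) (CohB1.tensorMod (famTensor M I) F) := by
  intro r
  induction r with
  | zero =>
    intro M hM F hF
    rw [Fintype.sum_subsingleton _ (∅ : Finset (Fin 0)), Finset.card_empty, pow_zero, one_smul,
      capHom, AddMonoidHom.id_apply, famTensor, Finset.sort_empty, List.map_nil, FGA.tensorList]
    exact (clSub_congr_iso (EGA73.tensUnitLeft F) (cohLe_tensor_left hX EGA73.isInvertible_structureModule hF) hF).symm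
  | succ r ih =>
    intro M hM F hF
    have hF' := cohLe_tensor_left hX (hM 0) hF
    rw [capHom, AddMonoidHom.comp_apply, capOp_apply, map_sub, tensOp_clSub hX (hM 0) hF,
      ih _ (fun i => hM i.succ) hF, ih _ (fun i => hM i.succ) hF', sum_fin_succ, sub_eq_add_neg,
      ← Finset.sum_neg_distrib]
    refine congrArg₂ (· + ·) (Finset.sum_congr rfl fun I _ => ?_) (Finset.sum_congr rfl fun I _ => ?_)
    · rw [Finset.card_map, famTensor_map_succ]
    · have hI := isInvertible_famTensor (fun i => hM (Fin.succ i)) I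
      rw [Finset.card_insert_of_notMem (notMem_zero_map_succ I), Finset.card_map, famTensor_insert_zero,
        pow_succ, mul_neg_one, neg_smul, neg_inj]
      refine congrArg _ (clSub_congr_iso ?_ (cohLe_tensor_left hX hI hF')
        (cohLe_tensor_left hX (EGA73.isInvertible_tensorMod (hM 0) hI) hF))
      exact (EGA73.tensAssoc' _ (M 0) F).symm ≪≫ EGA73.tensIso (EGA73.tensComm _ _) (Iso.refl F)

theorem capHom_mem : ∀ {r : ℕ} (M : Fin r → X.Modules) (hM : ∀ i, PicF.IsInvertible (M i)) {m : ℤ},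
    m ≤ n → ∀ {x : KZero.K0sub (Cyc.CohLe δ n)}, x ∈ filt δ n m → capHom hX M hM x ∈ filt δ n (m - r) := by
  intro r
  induction r with
  | zero => intro M hM m hm x hx; simpa [capHom] using hx
  | succ r ih =>
    intro M hM m hm x hx
    rw [capHom, AddMonoidHom.comp_apply]
    have := ih _ (fun i => hM i.succ) (show m - 1 ≤ n by omega) (capOp_mem hX (hM 0) hm hx)
    rwa [show m - ((r + 1 : ℕ) : ℤ) = m - 1 - r by push_cast; ring]

/-- A dimension function normalised by the dimension is nonnegative. -/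
theorem delta_nonneg [IrreducibleSpace X] {d : ℕ} (hdim : topologicalKrullDim X ≤ d)
    (hn : δ (genericPoint X) = d) (x : X) : 0 ≤ δ x := by
  have key : ∀ (m : ℕ) (x : X), (δ (genericPoint X) - δ x).toNat = m → (m : ℕ∞) ≤ Order.coheight x := by
    intro m
    induction m with
    | zero => intro x _; exact bot_le
    | succ m ih =>
      intro x hx
      have hη : genericPoint X ⤳ x := (genericPoint_spec X).specializes (Set.mem_univ x)
      have hne : genericPoint X ≠ x := fun e => by subst e; simp at hx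
      obtain ⟨z, hz1, hz2, hz3⟩ := exists_immediate hX.2.2 hη hne
      have h1 := delta_le hX.2.2 hz1
      have h2 := ih z (by omega)
      have hlt : x < z := lt_iff_le_not_ge.2 ⟨hz2, fun hle => by
        have := delta_le hX.2.2 (show x ⤳ z from hle); omega⟩
      refine le_trans ?_ (Order.coheight_add_one_le hlt)
      push_cast
      exact add_le_add_left h2 1
  have h1 := key _ x rfl
  have h2 := (CAlg9.FlatCofinite.coheight_le_topologicalKrullDim x).trans hdim
  rw [show ((d : ℕ) : WithBot ℕ∞) = ((d : ℕ∞) : WithBot ℕ∞) from rfl, WithBot.coe_le_coe] at h2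
  have h3 : (δ (genericPoint X) - δ x).toNat ≤ d := by exact_mod_cast h1.trans h2
  omega

omit hX in
theorem filt_eq_bot (hpos : ∀ x, 0 ≤ δ x) {m : ℤ} (hm : m < 0) : filt δ n m = ⊥ := by
  refine (AddSubgroup.closure_eq_bot_iff).2 ?_
  rintro _ ⟨F, hF, rfl⟩
  have hz := isZero_of_cohLe_neg hpos hm hF
  rw [Set.mem_singleton_iff]
  exact clSub_of_isZero hz

end Groth.Agent.RefCh18
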