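import Groth.Agent.RefCh18.Frob
import Groth.Agent.Cyc90.Dev.StalkSub
import Mathlib.LinearAlgebra.Determinant
import Groth.Prelude.Def_TorSh

/-! Determinants of lattices of torsion free modules in codimension one. -/

set_option autoImplicit false
set_option backward.isDefEq.respectTransparency.types false
set_option linter.style.haveILetI false
universe u

open CategoryTheory CategoryTheory.Limits AlgebraicGeometry TopologicalSpace IsLocalRing

noncomputable section

namespace Groth.Agent.RefCh18

open Groth.Agent Groth.Agent.QC70 Groth.Agent.Div89 Groth.Agent.Div89.Ref1 Groth.Agent.Cyc90 Groth.Agent.Cyc90.Dev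

variable {X : Scheme.{u}} [IsIntegral X]

/-- The map of stalks of the structure sheaf to the generic one. -/
def spc (x : X) : X.presheaf.stalk x →+* X.presheaf.stalk (genericPoint X) :=
  algebraMap (X.presheaf.stalk x) X.functionField

theorem spc_injective (x : X) : Function.Injective (spc x) :=
  IsFractionRing.injective (X.presheaf.stalk x) X.functionField

theorem toη_smul' (F : X.Modules) (x : X) (a : X.presheaf.stalk x) (t : F.presheaf.stalk x) :
    toη F x (a • t) = spc x a • toη F x t :=
  toη_smul F x a t

theorem exists_smul_eq_toη [IsLocallyNoetherian X] (F : X.Modules) (hF : Coh.IsCoh F) (x : X)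
    (v : F.presheaf.stalk (genericPoint X)) :
    ∃ (a : X.presheaf.stalk x) (z : F.presheaf.stalk x), IsUnit (spc x a) ∧ spc x a • v = toη F x z := by
  haveI := hF.1
  obtain ⟨_, ⟨U, hU, rfl⟩, hxU, -⟩ :=
    X.isBasis_affineOpens.exists_subset_of_mem_open (Set.mem_univ x) isOpen_univ
  have hη : genericPoint X ∈ U := Groth.Agent.Div89.genericPoint_mem hxU
  obtain ⟨f, t, hηf, ht⟩ := stalk_exists_smul (isLocAt_of_isQuasicoherent F hU) hU hη v
  have hsp : spc x (X.presheaf.germ U x hxU f) = X.presheaf.germ U (genericPoint X) hη f :=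
    TopCat.Presheaf.germ_stalkSpecializes_apply X.presheaf hxU
      ((genericPoint_spec X).specializes (Set.mem_univ x)) f
  refine ⟨X.presheaf.germ U x hxU f, germM F U x hxU t, hsp ▸ isUnit_germ hηf, ?_⟩
  rw [toη_germ, hsp, ht]

section Bases

variable [IsLocallyNoetherian X] {F : X.Modules} (hF : Coh.IsCoh F) (htf : TorSh.IsTorsionFree F) {x : X}
  {ι : Type*} [Fintype ι] (e : Module.Basis ι (X.presheaf.stalk x) (F.presheaf.stalk x))

include htf hF in
theorem linearIndependent_toη :
    LinearIndependent (X.presheaf.stalk (genericPoint X)) (fun i => toη F x (e i)) := by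
  classical
  refine Fintype.linearIndependent_iff.2 fun c hc i => ?_
  obtain ⟨b, hb⟩ := IsLocalization.exist_integer_multiples (nonZeroDivisors (X.presheaf.stalk x))
    Finset.univ (fun j => (c j : X.functionField))
  choose d hd using fun j => hb j (Finset.mem_univ j)
  have hd' : ∀ j, spc x (d j) = spc x (b : X.presheaf.stalk x) * c j := fun j => by
    refine (hd j).trans ?_
    rw [Algebra.smul_def]
    rfl
  have h0 : toη F x (∑ j, d j • e j) = 0 := by
    rw [map_sum]
    simp only [toη_smul', hd', mul_smul]
    rw [← Finset.smul_sum, hc, smul_zero]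
  have h1 := Fintype.linearIndependent_iff.1 e.linearIndependent d
    (toη_injective F hF.1 htf x (h0.trans (map_zero _).symm)) i
  have h2 := hd' i
  rw [h1, map_zero] at h2
  rcases mul_eq_zero.1 (show (spc x (b : X.presheaf.stalk x) : X.functionField) * c i = 0 from h2.symm) with h | h
  · exact absurd ((map_eq_zero_iff _ (spc_injective x)).1 h) (nonZeroDivisors.ne_zero b.2)
  · exact h

include hF in
theorem span_toη : ⊤ ≤ Submodule.span (X.presheaf.stalk (genericPoint X)) (Set.range fun i => toη F x (e i)) := by
  intro v _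
  obtain ⟨a, z, ⟨u, hu⟩, hz⟩ := exists_smul_eq_toη F hF x v
  have hv : v = (↑u⁻¹ : X.presheaf.stalk (genericPoint X)) • toη F x z := by
    rw [← hz, smul_smul, ← hu, Units.inv_mul, one_smul]
  rw [hv]
  refine Submodule.smul_mem _ _ ?_
  rw [← e.sum_repr z, map_sum]
  refine Submodule.sum_mem _ fun j _ => ?_
  rw [toη_smul']
  exact Submodule.smul_mem _ _ (Submodule.subset_span ⟨j, rfl⟩)

/-- A basis of a stalk gives a basis of the generic stalk. -/
def bη : Module.Basis ι (X.presheaf.stalk (genericPoint X)) (F.presheaf.stalk (genericPoint X)) :=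
  Module.Basis.mk (linearIndependent_toη hF htf e) (span_toη hF e)

@[simp] theorem bη_apply (i : ι) : bη hF htf e i = toη F x (e i) := Module.Basis.mk_apply _ _ i

end Bases

variable [IsLocallyNoetherian X]

/-- Two bases of a stalk give the same order of the determinant. -/
theorem det_bη_change {F : X.Modules} (hF : Coh.IsCoh F) (htf : TorSh.IsTorsionFree F) {x : X} {r : ℕ}
    (e e' : Module.Basis (Fin r) (X.presheaf.stalk x) (F.presheaf.stalk x))
    (v : Fin r → F.presheaf.stalk (genericPoint X)) :
    ∃ u : (X.presheaf.stalk x)ˣ, (bη hF htf e).det v = spc x u * (bη hF htf e').det v := by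
  have hu : IsUnit (e.det e') := e.isUnit_det e'
  refine ⟨hu.unit, ?_⟩
  have h1 : (bη hF htf e).det (bη hF htf e') = spc x (e.det e') := by
    rw [Module.Basis.det_apply, Module.Basis.det_apply, RingHom.map_det]
    congr 1
    ext i j
    simp only [Module.Basis.toMatrix_apply, RingHom.mapMatrix_apply, Matrix.map_apply]
    have hj : bη hF htf e' j = ∑ k, spc x (e.repr (e' j) k) • bη hF htf e k := by
      rw [bη_apply]
      conv_lhs => rw [← e.sum_repr (e' j), map_sum]
      simp [toη_smul']
    rw [hj, Module.Basis.repr_sum_self]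
  rw [Module.Basis.det_apply, ← Module.Basis.toMatrix_mul_toMatrix (bη hF htf e) (bη hF htf e') v, Matrix.det_mul,
    ← Module.Basis.det_apply, ← Module.Basis.det_apply, h1]
  rfl

end Groth.Agent.RefCh18
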