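import Groth.Agent.Div89.Ref1.Class
import Groth.Agent.Div89.Ref1.Constr
import Groth.Agent.Cyc90.Dev.Cls
import Groth.Agent.Cyc90.DimFun
import Groth.Agent.Crv77.Degree

/-! Classes of rank one reflexive modules in the K-theory of coherent modules modulo codimension two. -/

set_option autoImplicit false
set_option backward.isDefEq.respectTransparency.types false
set_option linter.style.haveILetI false
universe u

open CategoryTheory CategoryTheory.Limits AlgebraicGeometry TopologicalSpace IsLocalRing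

noncomputable section

namespace Groth.Agent.RefCh18

open Groth.Agent Groth.Agent.QC70 Groth.Agent.Div89.Ref1 Groth.Agent.Cyc90 Groth.Agent.Cyc90.Dev

variable {X : Scheme.{u}} [IsIntegral X] {δ : X → ℤ} {n k : ℤ}

omit [IsIntegral X] in
theorem delta_le_top [IrreducibleSpace X] (hX : Cyc.IsSetup X δ) (hn : δ (genericPoint X) = n) (x : X) :
    δ x ≤ n :=
  hn ▸ delta_le hX.2.2 ((genericPoint_spec X).specializes (Set.mem_univ x))

theorem eq_generic (hX : Cyc.IsSetup X δ) (hn : δ (genericPoint X) = n) {x : X} (hx : δ x = n) :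
    x = genericPoint X :=
  (eq_of_delta_le hX.2.2 ((genericPoint_spec X).specializes (Set.mem_univ x)) (by omega)).symm

theorem cohLe_top (hX : Cyc.IsSetup X δ) (hn : δ (genericPoint X) = n) {F : X.Modules} (hF : Coh.IsCoh F) :
    Cyc.CohLe δ n F :=
  ⟨hF, fun x _ => delta_le_top hX hn x⟩

theorem coheight_one_iff (hX : Cyc.IsSetup X δ) (hn : δ (genericPoint X) = n) (x : X) :
    Order.coheight x = 1 ↔ δ x = n - 1 := by
  have hη : ∀ y : X, y ≤ genericPoint X := fun y => (genericPoint_spec X).specializes (Set.mem_univ y)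
  have hlt : ∀ a b : X, a < b → δ a < δ b := fun a b h =>
    delta_lt hX.2.2 h.le h.ne'
  constructor
  · intro hc
    have hne : genericPoint X ≠ x := by
      rintro rfl
      have h0 : Order.coheight (genericPoint X) = 0 := Order.coheight_eq_zero.2 fun y _ => hη y
      rw [h0] at hc
      exact zero_ne_one hc
    obtain ⟨z, hz1, hz2, hz3⟩ := exists_immediate hX.2.2 (hη x) hne
    have hzη : genericPoint X = z := by
      by_contra h
      have h1 : x < z := lt_iff_le_not_ge.2 ⟨hz2, fun hle => by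
        have := delta_le hX.2.2 (show x ⤳ z from hle); omega⟩
      have h2 : z < genericPoint X := lt_iff_le_not_ge.2 ⟨hz1, fun hle =>
        h (eq_of_delta_le hX.2.2 hz1 (delta_le hX.2.2 (show z ⤳ genericPoint X from hle)))⟩
      have h3 := (Order.coheight_le_coe_iff (n := 1)).1 hc.le z h1
      rw [Nat.cast_one, ENat.lt_one_iff_eq_zero] at h3
      exact h2.not_ge ((Order.coheight_eq_zero.1 h3) h2.le)
    subst hzη
    omega
  · intro hd
    refine le_antisymm ?_ (Order.one_le_iff_pos.2 (Order.coheight_pos.2 fun h => ?_))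
    · refine (Order.coheight_le_coe_iff (n := 1)).2 fun y hy => ?_
      have h1 := hlt _ _ hy
      have h2 := delta_le_top hX hn y
      obtain rfl : y = genericPoint X := eq_generic hX hn (by omega)
      rw [Order.coheight_eq_zero.2 fun z _ => hη z]
      exact zero_lt_one
    · have := h (hη x)
      have e : δ (genericPoint X) ≤ δ x := delta_le hX.2.2 this
      omega

variable [IsLocallyNoetherian X]

/-- The divisor of a rational section, as a function supported in codimension one. -/
def dv (F : X.Modules) (v : F.presheaf.stalk (genericPoint X)) (x : X) : ℤ :=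
  if Order.coheight x = 1 then sord F x v else 0

theorem dv_locFin (hN : Pi1.IsNormalScheme X) {F : X.Modules} (hF : RefHull.IsRef1 F)
    {v : F.presheaf.stalk (genericPoint X)} (hv : v ≠ 0) (V : X.affineOpens) :
    {x : X | x ∈ V.1 ∧ dv F v x ≠ 0}.Finite :=
  (finite_sord_ne_zero F (framed_of_isRef1 hN hF (Or.inl rfl)) hv V).subset fun x hx => by
    obtain ⟨h1, h2⟩ := hx
    unfold dv at h2
    split_ifs at h2 with hc
    · exact ⟨h1, hc, h2⟩
    · exact absurd rfl h2

/-- The length of the cokernel of a map of modules cyclic at a point. -/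
theorem length_coker {R M N Q : Type*} [CommRing R] [AddCommGroup M] [AddCommGroup N] [AddCommGroup Q]
    [Module R M] [Module R N] [Module R Q] (f : M →ₗ[R] N) (g : N →ₗ[R] Q) (hfg : Function.Exact f g)
    (hg : Function.Surjective g) (eM : M) (hM : Function.Surjective fun c : R => c • eM) (eN : N)
    (hN : Function.Bijective fun c : R => c • eN) (a : R) (ha : f eM = a • eN) :
    Module.length R Q = Module.length R (R ⧸ Ideal.span {a}) := by
  let φ := g ∘ₗ LinearMap.toSpanSingleton R N eN
  have hφ : Function.Surjective φ := hg.comp hN.2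
  have hker : LinearMap.ker φ = Ideal.span {a} := by
    ext c
    rw [LinearMap.mem_ker, Ideal.mem_span_singleton']
    constructor
    · intro h
      obtain ⟨m, hm⟩ := (hfg _).1 h
      obtain ⟨b, rfl⟩ := hM m
      refine ⟨b, hN.1 ?_⟩
      simp only [map_smul, ha, LinearMap.toSpanSingleton_apply] at hm
      simpa [mul_smul] using hm
    · rintro ⟨b, rfl⟩
      refine (hfg _).2 ⟨b • eM, ?_⟩
      simp [ha, mul_smul]
  exact ((φ.quotKerEquivOfSurjective hφ).symm.trans (Submodule.quotEquivOfEq _ _ hker)).length_eq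

theorem ord_algebraMap_eq_length (hN : Pi1.IsNormalScheme X) {x : X} (hc : Order.coheight x = 1)
    {a : X.presheaf.stalk x} (ha : a ≠ 0) :
    Scheme.ord (algebraMap (X.presheaf.stalk x) X.functionField a) x =
      ((Module.length (X.presheaf.stalk x) (X.presheaf.stalk x ⧸ Ideal.span {a})).toNat : ℤ) := by
  haveI := isDVR hN hc
  haveI : Ring.KrullDimLE 1 (X.presheaf.stalk x) := krullDimLE_of_coheight_le hc.le
  have hne : algebraMap (X.presheaf.stalk x) X.functionField a ≠ 0 :=
    (map_ne_zero_iff _ (IsFractionRing.injective _ _)).2 ha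
  rw [Scheme.ord_eq_iff hc hne]
  refine (Ring.ordFrac_eq_ord (X.presheaf.stalk x) ha).trans ?_
  have hfin : Ring.ord (X.presheaf.stalk x) a ≠ ⊤ :=
    Ring.ord_ne_top (mem_nonZeroDivisors_of_ne_zero ha)
  show Ring.ordMonoidWithZeroHom (X.presheaf.stalk x) a = _
  obtain ⟨m, hm⟩ := ENat.ne_top_iff_exists.1 hfin
  rw [show Module.length (X.presheaf.stalk x) (X.presheaf.stalk x ⧸ Ideal.span {a}) =
    Ring.ord (X.presheaf.stalk x) a from rfl, ← hm, Ring.ordMonoidWithZeroHom_eq_coe _ (mem_nonZeroDivisors_of_ne_zero ha) hm.symm]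
  simp

/-- A nonnegative difference of divisors is realised by an injection with that cycle as cokernel. -/
theorem exists_mono (hN : Pi1.IsNormalScheme X) (hX : Cyc.IsSetup X δ) (hn : δ (genericPoint X) = n)
    (hk : k + 1 = n) {F G : X.Modules} (hF : RefHull.IsRef1 F) (hG : RefHull.IsRef1 G)
    {v : F.presheaf.stalk (genericPoint X)} (hv : v ≠ 0) {w : G.presheaf.stalk (genericPoint X)} (hw : w ≠ 0)
    (hle : ∀ x, dv F v x ≤ dv G w x) :
    ∃ Q : X.Modules, Cyc.CohLe δ k Q ∧ (∀ x, Cyc.sheafFun δ k Q x = dv G w x - dv F v x) ∧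
      ∀ b, Cyc.toK0CohQuot δ n b G = Cyc.toK0CohQuot δ n b F + Cyc.toK0CohQuot δ n b Q := by
  have hbF := smul_bijective_of_ne_zero (framed_of_isRef1 hN hF (Or.inl rfl)) hv
  have hbG := smul_bijective_of_ne_zero (framed_of_isRef1 hN hG (Or.inl rfl)) hw
  let eF := LinearEquiv.ofBijective (LinearMap.toSpanSingleton (X.presheaf.stalk (genericPoint X)) _ v) hbF
  let T : F.presheaf.stalk (genericPoint X) →ₗ[X.presheaf.stalk (genericPoint X)]
      G.presheaf.stalk (genericPoint X) :=
    LinearMap.toSpanSingleton (X.presheaf.stalk (genericPoint X)) _ w ∘ₗ eF.symm.toLinearMap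
  have hT : ∀ c : X.presheaf.stalk (genericPoint X), T (c • v) = c • w := fun c => by
    show LinearMap.toSpanSingleton _ _ w (eF.symm (eF c)) = _
    rw [LinearEquiv.symm_apply_apply]
    rfl
  have hTi : Function.Injective T := fun a b hab => eF.symm.injective (hbG.1 hab)
  have hTm : ∀ x : X, Order.coheight x = 1 → Set.MapsTo T (Set.range (toη F x)) (Set.range (toη G x)) := by
    intro x hc u hu
    obtain ⟨c, rfl⟩ := hbF.2 u
    rw [hT]
    by_cases hc0 : c = 0
    · subst hc0
      exact ⟨0, by rw [map_zero, zero_smul]⟩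
    have h1 : (c • v) ≠ 0 := fun h => hc0 (hbF.1 (h.trans (zero_smul _ v).symm))
    have h2 : (c • w) ≠ 0 := fun h => hc0 (hbG.1 (h.trans (zero_smul _ w).symm))
    have hfF := framed_of_isRef1 hN hF (Or.inr hc)
    have hfG := framed_of_isRef1 hN hG (Or.inr hc)
    have h3 := (mem_range_toη_iff hN hfF hc h1).1 hu
    rw [mem_range_toη_iff hN hfG hc h2]
    rw [sord_smul hfF hc hv c hc0] at h3
    rw [sord_smul hfG hc hw c hc0]
    have := hle x
    rw [dv, dv, if_pos hc, if_pos hc] at this
    omega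
  obtain ⟨ψ, hψ⟩ := exists_hom hN G hG.1 (stalks_reflexive hG) F T hTm
  have hcomm : ∀ (x : X) (z : F.presheaf.stalk x), toη G x (RefHull.stalkMapₗ ψ x z) = T (toη F x z) :=
    fun x z => by rw [← hψ]; exact (stalkMapₗ_toη ψ x z).symm
  have htfF := toη_injective F hF.1.1 (torsionFree_of_reflexive F (stalks_reflexive hF))
  have hinj : ∀ x : X, Function.Injective (RefHull.stalkMapₗ ψ x) := fun x a b hab => by
    refine htfF x (hTi ?_)
    rw [← hcomm, ← hcomm, hab]
  have : Mono ψ := mono_of_injective_stalkMapM ψ hinj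
  let S := ShortComplex.mk ψ (cokernel.π ψ) (cokernel.condition ψ)
  have hS : S.ShortExact :=
    { exact := ShortComplex.exact_of_g_is_cokernel _ (cokernelIsCokernel ψ)
      mono_f := ‹_›
      epi_g := inferInstanceAs (Epi (cokernel.π ψ)) }
  have hQc : Coh.IsCoh (cokernel ψ) := Crv77.isCoh_cokernel ψ hF.1 hG.1
  have hsurjQ : ∀ x : X, Function.Surjective (stalkLinear (cokernel.π ψ) x) := fun x =>
    surjective_stalkMapM_of_epi (cokernel.π ψ) x
  have hexact : ∀ x : X, Function.Exact (stalkLinear ψ x) (stalkLinear (cokernel.π ψ) x) := fun x e =>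
    ⟨stalkMapM_exact S hS.exact x e, by
      rintro ⟨d, rfl⟩
      change stalkMapM (cokernel.π ψ) x (stalkMapM ψ x d) = 0
      rw [← stalkMapM_comp, cokernel.condition, stalkMapM_zero]⟩
  have hQη : Subsingleton ((cokernel ψ).presheaf.stalk (genericPoint X)) := by
    refine subsingleton_of_forall_eq 0 fun q => ?_
    obtain ⟨g, rfl⟩ := hsurjQ _ q
    obtain ⟨c, rfl⟩ := hbG.2 g
    refine (hexact _ _).2 ⟨c • v, ?_⟩
    show RefHull.stalkMapₗ ψ _ (c • v) = c • w
    rw [hψ, hT]
  have hQle : Cyc.CohLe δ k (cokernel ψ) := ⟨hQc, fun x hx => by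
    by_contra h
    have h1 := delta_le_top hX hn x
    obtain rfl := eq_generic hX hn (x := x) (by omega)
    exact not_subsingleton_iff_nontrivial.2 hx hQη⟩
  refine ⟨cokernel ψ, hQle, fun x => ?_, fun b => ?_⟩
  · by_cases hc : Order.coheight x = 1
    swap
    · rw [Cyc.sheafFun, if_neg (by rw [coheight_one_iff hX hn] at hc; omega), dv, dv, if_neg hc, if_neg hc]
      rfl
    obtain ⟨W, hxW, e, he, φ, hφ, hvφ⟩ := exists_coord (framed_of_isRef1 hN hF (Or.inr hc)) hv
    obtain ⟨W', hxW', e', he'⟩ := framed_of_isRef1 hN hG (Or.inr hc)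
    have hg' := isGen_germM he' hxW'
    obtain ⟨a, ha⟩ := hg'.2 (RefHull.stalkMapₗ ψ x (germM F W x hxW e))
    replace ha : a • germM G W' x hxW' e' = RefHull.stalkMapₗ ψ x (germM F W x hxW e) := ha
    let aK : X.functionField := algebraMap (X.presheaf.stalk x) X.functionField a
    have hwa : w = ((φ * aK : X.functionField) : X.presheaf.stalk (genericPoint X)) •
        toη G x (germM G W' x hxW' e') := by
      have h1 : T v = w := by simpa using hT 1
      rw [← h1, hvφ, map_smul, ← toη_germ F x hxW e, ← hcomm, ← ha, toη_smul, smul_smul]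
    have ha0 : a ≠ 0 := by
      rintro rfl
      refine hw ?_
      rw [hwa]
      simp [aK]
    have haK : aK ≠ 0 := (map_ne_zero_iff _ (IsFractionRing.injective _ _)).2 ha0
    have hdv : sord G x w - sord F x v = Scheme.ord aK x := by
      have h1 : sord G x w = Scheme.ord (φ * aK) x := by
        rw [hwa, toη_germ, sord_frame he' (Groth.Agent.Div89.genericPoint_mem hxW') hxW' hc _ (mul_ne_zero hφ haK)]
      have h2 : sord F x v = Scheme.ord φ x := by
        rw [hvφ, sord_frame he (Groth.Agent.Div89.genericPoint_mem hxW) hxW hc φ hφ]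
      rw [h1, h2, Scheme.ord_mul hφ haK]
      ring
    rw [Cyc.sheafFun, if_pos (by rw [coheight_one_iff hX hn] at hc; omega), dv, dv, if_pos hc, if_pos hc, hdv,
      ord_algebraMap_eq_length hN hc ha0,
      length_coker (stalkLinear ψ x) (stalkLinear (cokernel.π ψ) x) (hexact x) (hsurjQ x)
        (germM F W x hxW e) (isGen_germM he hxW).2 (germM G W' x hxW' e') hg' a ha.symm]
  · exact toK_add hS (cohLe_top hX hn hF.1) (cohLe_top hX hn hG.1) (cohLe_mono hQle (by omega))

/-- The class attached to a cycle of dimension `k`. -/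
def clsZ (δ : X → ℤ) (n b : ℤ) (γ : X → ℤ) : Cyc.K0CohQuot δ n b :=
  Cyc.toK0CohQuot δ n b (Cyc.cycleSheafPos γ) - Cyc.toK0CohQuot δ n b (Cyc.cycleSheafNeg γ)

omit [IsIntegral X] [IsLocallyNoetherian X] in
theorem isCycFun_sub {α β : X → ℤ} (ha : IsCycFun δ k α) (hb : IsCycFun δ k β) : IsCycFun δ k (α - β) := by
  refine ⟨fun x hx => ?_, fun x => ?_⟩
  · by_cases h : α x = 0
    · exact hb.dim x fun h' => hx (by simp [h, h'])
    · exact ha.dim x h
  · obtain ⟨U, hU, hxU, hf⟩ := ha.locFin x
    obtain ⟨U', hU', hxU', hf'⟩ := hb.locFin x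
    refine ⟨U ∩ U', hU.inter hU', ⟨hxU, hxU'⟩, (hf.union hf').subset fun ζ hζ => ?_⟩
    by_cases h : α ζ = 0
    · exact Or.inr ⟨fun h' => hζ.1 (by simp [h, h']), hζ.2.2⟩
    · exact Or.inl ⟨h, hζ.2.1⟩

/-- The difference of the classes of two rank one reflexive modules is the class of the difference of divisors. -/
theorem toK_sub_ref1 (hN : Pi1.IsNormalScheme X) (hX : Cyc.IsSetup X δ) (hn : δ (genericPoint X) = n)
    (hk : k + 1 = n) {F G : X.Modules} (hF : RefHull.IsRef1 F) (hG : RefHull.IsRef1 G)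
    {v : F.presheaf.stalk (genericPoint X)} (hv : v ≠ 0) {w : G.presheaf.stalk (genericPoint X)} (hw : w ≠ 0) :
    Cyc.toK0CohQuot δ n (k - 1) G - Cyc.toK0CohQuot δ n (k - 1) F =
      clsZ δ n (k - 1) (fun x => dv G w x - dv F v x) := by
  let D : X → ℤ := fun x => max (dv F v x) (dv G w x)
  have hD : ∀ x : X, ∃ N ∈ nhds x, (N ∩ Function.support D).Finite := by
    intro x
    obtain ⟨_, ⟨U, hU, rfl⟩, hxU, -⟩ :=
      X.isBasis_affineOpens.exists_subset_of_mem_open (Set.mem_univ x) isOpen_univ
    refine ⟨U, U.2.mem_nhds hxU, ((dv_locFin hN hF hv ⟨U, hU⟩).union (dv_locFin hN hG hw ⟨U, hU⟩)).subset ?_⟩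
    rintro y ⟨hy, hy'⟩
    by_cases h : dv F v y = 0
    · exact Or.inr ⟨hy, fun h' => hy' (by simp [D, h, h'])⟩
    · exact Or.inl ⟨hy, h⟩
  obtain ⟨p, hp, hpD⟩ := exists_section_divisor hN hD
  have hP := isRef1_divMod hN hD
  have hdvP : ∀ x, dv (divMod D hN) p x = D x := fun x => by
    unfold dv
    split_ifs with hc
    · exact hpD x hc
    · simp [D, dv, hc]
  obtain ⟨Q₁, hQ₁, hf₁, e₁⟩ := exists_mono hN hX hn hk hF hP hv hp fun x => by
    rw [hdvP]; exact le_max_left _ _
  obtain ⟨Q₂, hQ₂, hf₂, e₂⟩ := exists_mono hN hX hn hk hG hP hw hp fun x => by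
    rw [hdvP]; exact le_max_right _ _
  have hsub : ∀ x, Cyc.sheafFun δ k Q₁ x - Cyc.sheafFun δ k Q₂ x = dv G w x - dv F v x := fun x => by
    rw [hf₁, hf₂]; ring
  have hγ : IsCycFun δ k (fun x => dv G w x - dv F v x) := by
    have := isCycFun_sub (isCycFun_sheafFun hX hQ₁) (isCycFun_sheafFun hX hQ₂)
    convert this using 1
    exact funext fun x => (hsub x).symm
  rw [clsZ, ← toK_sub_eq hX hQ₁ hQ₂ hγ hsub (show k ≤ n by omega)]
  have := (e₁ (k - 1)).symm.trans (e₂ (k - 1))
  rw [sub_eq_sub_iff_add_eq_add, this.symm, add_comm]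

/-- Rank one reflexive modules have the class of the structure sheaf modulo codimension one. -/
theorem toK_ref1_eq_unit (hN : Pi1.IsNormalScheme X) (hX : Cyc.IsSetup X δ) (hn : δ (genericPoint X) = n)
    {F : X.Modules} (hF : RefHull.IsRef1 F) :
    Cyc.toK0CohQuot δ n (n - 1) (Coh.structureModule X) = Cyc.toK0CohQuot δ n (n - 1) F := by
  refine toK_eq_of_stalk_equiv hX (cohLe_top hX hn Groth.Agent.Div89.isCoh_structureModule) (cohLe_top hX hn hF.1) le_rfl
    fun η hη => ?_
  obtain rfl := eq_generic hX hn hη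
  obtain ⟨W, hW, e, he⟩ := framed_of_isRef1 hN hF (x := genericPoint X) (Or.inl rfl)
  exact ⟨(LinearEquiv.ofBijective (LinearMap.toSpanSingleton (X.presheaf.stalk (genericPoint X)) _
      (germM (Coh.structureModule X) ⊤ (genericPoint X) trivial (toUnit (1 : Γ(X, ⊤)))))
      (isGen_germM isFrame_unit _)).symm.trans
    (LinearEquiv.ofBijective (LinearMap.toSpanSingleton (X.presheaf.stalk (genericPoint X)) _
      (germM F W (genericPoint X) hW e)) (isGen_germM he hW))⟩

/-- Reflexive tensor products add classes. -/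
theorem toK_refTensor (hN : Pi1.IsNormalScheme X) (hX : Cyc.IsSetup X δ) (hn : δ (genericPoint X) = n)
    (hk : k + 1 = n) {F G : X.Modules} (hF : RefHull.IsRef1 F) (hG : RefHull.IsRef1 G) :
    Cyc.toK0CohQuot δ n (k - 1) (RefPow.refTensor F G) + Cyc.toK0CohQuot δ n (k - 1) (Coh.structureModule X) =
      Cyc.toK0CohQuot δ n (k - 1) F + Cyc.toK0CohQuot δ n (k - 1) G := by
  obtain ⟨v, hv⟩ := exists_ne_zero hN hF
  obtain ⟨w, hw⟩ := exists_ne_zero hN hG
  obtain ⟨hR, z, hz, hzx⟩ := exists_refTensor hN hF hG hv hw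
  obtain ⟨o, ho, hox⟩ := exists_unit_section (X := X)
  have e₁ := toK_sub_ref1 hN hX hn hk hG hR hw hz
  have e₂ := toK_sub_ref1 hN hX hn hk isRef1_structureModule hF ho hv
  have hfun : (fun x => dv (RefHull.ddual (CohB1.tensorMod F G)) z x - dv G w x) =
      fun x => dv F v x - dv (Coh.structureModule X) o x := funext fun x => by
    simp only [dv]
    split_ifs with hc
    · rw [hzx x hc, hox x hc]; ring
    · ring
  rw [hfun] at e₁
  have e := e₁.trans e₂.symm
  rw [sub_eq_sub_iff_add_eq_add] at e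
  exact e

end Groth.Agent.RefCh18
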