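import Groth.Agent.RefCh18.ExtDet
import Groth.Agent.RefCh18.Pair
import Groth.Agent.FlatMor67.LocFreeDescent

/-! Reflexive Frobenius pull-backs multiply the determinant divisor by the characteristic. -/

set_option autoImplicit false
set_option backward.isDefEq.respectTransparency.types false
set_option linter.style.haveILetI false
universe u

open CategoryTheory CategoryTheory.Limits AlgebraicGeometry TopologicalSpace IsLocalRing Opposite

noncomputable section

namespace Groth.Agent.RefCh18

open Groth.Agent Groth.Agent.QC70 Groth.Agent.Props58.LocFree Groth.Agent.Div89 Groth.Agent.Div89.Ref1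

variable {X : Scheme.{u}} [IsIntegral X] [IsLocallyNoetherian X]

theorem exists_chart (hN : Pi1.IsNormalScheme X) {F : X.Modules} (hF : Coh.IsCoh F) (htf : TorSh.IsTorsionFree F)
    {r : ℕ} (v : Module.Basis (Fin r) (X.presheaf.stalk (genericPoint X)) (F.presheaf.stalk (genericPoint X)))
    {x : X} (hx : x = genericPoint X ∨ Order.coheight x = 1) :
    ∃ (D : X.affineOpens) (s : Fin r → Γ(F, D.1)), x ∈ D.1 ∧ StalkBasis s := by
  have hfree : Module.Free (X.presheaf.stalk x) (F.presheaf.stalk x) := by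
    rcases hx with rfl | hc
    · exact Module.Free.of_basis v
    · exact Module.Free.of_basis (exists_basis_codim_one hN hF htf v hc).some
  obtain ⟨U, m, hxU, ⟨i⟩⟩ := exists_nhd_free_of_free_stalk hF hfree
  obtain ⟨s, hs⟩ := exists_stalkBasis_of_iso i
  obtain ⟨_, ⟨D, hD, rfl⟩, hxD, hDU⟩ :=
    X.isBasis_affineOpens.exists_subset_of_mem_open hxU U.2
  have hs' := hs.restrict (show D ≤ U from hDU)
  have hm : m = r := by
    let e := Module.Basis.ofEquivFun (hs'.stalkEquiv x hxD).symm
    simpa using Fintype.card_congr ((bη hF htf e).indexEquiv v)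
  subst hm
  exact ⟨⟨D, hD⟩, _, hxD, hs'⟩

omit [IsIntegral X] [IsLocallyNoetherian X] in
theorem exists_stalk_basis {M : X.Modules} {D : X.Opens} {r : ℕ} {s : Fin r → Γ(M, D)} (hs : StalkBasis s)
    {x : X} (hx : x ∈ D) :
    ∃ e : Module.Basis (Fin r) (X.presheaf.stalk x) (M.presheaf.stalk x), ∀ j, e j = germM M D x hx (s j) := by
  classical
  refine ⟨Module.Basis.ofEquivFun (hs.stalkEquiv x hx).symm, fun j => ?_⟩
  rw [Module.Basis.coe_ofEquivFun]
  show germComb s _ hx (Pi.single j 1) = _
  exact (Finset.sum_eq_single j (fun b _ hb => by rw [Pi.single_eq_of_ne hb, zero_smul])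
    (fun h => absurd (Finset.mem_univ _) h)).trans (by rw [Pi.single_eq_same, one_smul])

variable (p : ℕ) [Fact p.Prime] [FrobSch.IsCharP X p]

/-- One step of the reflexive Frobenius pull-back. -/
theorem exists_frob_basis (hN : Pi1.IsNormalScheme X) {H : X.Modules} (hH : Coh.IsCoh H)
    (htf : TorSh.IsTorsionFree H) {r : ℕ}
    (v : Module.Basis (Fin r) (X.presheaf.stalk (genericPoint X)) (H.presheaf.stalk (genericPoint X)))
    {G : X.Modules} (e : G ≅ RefHull.ddual ((Scheme.Modules.pullback (FrobSch.frob X p)).obj H)) :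
    ∃ (hG : Coh.IsCoh G) (htG : TorSh.IsTorsionFree G)
      (v' : Module.Basis (Fin r) (X.presheaf.stalk (genericPoint X)) (G.presheaf.stalk (genericPoint X))),
      ∀ x : X, Order.coheight x = 1 → ∀ b : Module.Basis (Fin r) (X.presheaf.stalk x) (H.presheaf.stalk x),
        ∀ b' : Module.Basis (Fin r) (X.presheaf.stalk x) (G.presheaf.stalk x),
        Scheme.ord ((bη hG htG b').det v' : X.functionField) x =
          (p : ℤ) * Scheme.ord ((bη hH htf b).det v : X.functionField) x := by
  haveI : H.IsQuasicoherent := hH.1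
  let T := (Scheme.Modules.pullback (FrobSch.frob X p)).obj H
  have hT : Coh.IsCoh T := Groth.Agent.ConsProp93.isCoh_pullback _ hH
  haveI : T.IsQuasicoherent := hT.1
  let D := RefHull.ddual T
  have hD : Coh.IsCoh D := isCoh_dual _ (isCoh_dual _ hT)
  have hG : Coh.IsCoh G := Crv77.isCoh_of_iso e.symm hD
  let ψ : T ⟶ G := RefHull.bidualMap T ≫ e.inv
  have htG : TorSh.IsTorsionFree G := fun x => by
    haveI := torsionFree_of_reflexive D (fun y => isReflexiveAt_ddual _ hT y) x
    exact Function.Injective.moduleIsTorsionFree (RefHull.stalkMapₗ e.hom x) (bijective_stalk_iso e x).1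
      fun c z => map_smul _ c z
  have chart : ∀ x : X, (x = genericPoint X ∨ Order.coheight x = 1) →
      ∃ (W : X.affineOpens) (s : Fin r → Γ(H, W.1)) (s' : Fin r → Γ(T, W.1)), x ∈ W.1 ∧ StalkBasis s ∧ StalkBasis s' ∧
        ∀ j, s' j = Amp73.pullS (FrobSch.frob X p) H W.1 (s j) := by
    intro x hx
    obtain ⟨W, s, hxW, hs⟩ := exists_chart hN hH htf v hx
    let s' : Fin r → Γ(T, W.1) := fun j => Amp73.pullS (FrobSch.frob X p) H W.1 (s j)
    have hbij : Function.Bijective fun a : Fin r → Γ(X, W.1) => ∑ i, a i • s' i := by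
      have h := FlatMor67.LocFreeDescent.frame_bijective (FrobSch.frob X p) H W.2 hs (le_refl W.1)
      simp only [res_self] at h
      exact h
    let b : Module.Basis (Fin r) Γ(X, W.1) Γ(T, W.1) := Module.Basis.ofEquivFun (LinearEquiv.ofBijective
      (Fintype.linearCombination Γ(X, W.1) s') (by
        refine (congrArg Function.Bijective (funext fun a => ?_)).mp hbij
        simp [Fintype.linearCombination_apply])).symm
    have hb : (⇑b : Fin r → Γ(T, W.1)) = s' := funext fun j => by
      classical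
      rw [Module.Basis.coe_ofEquivFun, LinearEquiv.symm_symm]
      show Fintype.linearCombination Γ(X, W.1) s' (Pi.single j 1) = _
      rw [Fintype.linearCombination_apply_single, one_smul]
    exact ⟨W, s, s', hxW, hs, hb ▸ stalkBasis_of_basis W.2 b, fun j => rfl⟩
  have hψb : ∀ x : X, (x = genericPoint X ∨ Order.coheight x = 1) → Function.Bijective (RefHull.stalkMapₗ ψ x) := by
    intro x hx
    obtain ⟨W, s, s', hxW, -, hs', -⟩ := chart x hx
    obtain ⟨eT, -⟩ := exists_stalk_basis hs' hxW
    haveI := Module.Free.of_basis eT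
    haveI := Module.Finite.of_basis eT
    rw [show ψ = RefHull.bidualMap T ≫ e.inv from rfl, RefFun.stalkMapₗ_comp]
    exact (bijective_stalk_iso e.symm x).comp (bijective_stalk_bidual _ hT x
      (show Module.IsReflexive (X.presheaf.stalk x) (T.presheaf.stalk x) from inferInstance))
  have hlift : ∃ (O : X.Opens) (hO : genericPoint X ∈ O) (t : Fin r → Γ(H, O)),
      ∀ i, germM H O (genericPoint X) hO (t i) = v i := by
    choose V hV t ht using fun i => H.presheaf.exists_germ_eq (x := genericPoint X) (v i)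
    let O : X.Opens := ⟨⋂ i, (V i : Set X), isOpen_iInter_of_finite fun i => (V i).2⟩
    refine ⟨O, Set.mem_iInter.2 hV, fun i => res H (fun z hz => Set.mem_iInter.1 hz i) (t i), fun i => ?_⟩
    rw [germM_res]
    exact ht i
  obtain ⟨O, hηO, t, ht⟩ := hlift
  let u : Fin r → G.presheaf.stalk (genericPoint X) := fun i =>
    RefHull.stalkMapₗ ψ _ (germM T O (genericPoint X) hηO (Amp73.pullS (FrobSch.frob X p) H O (t i)))
  have coords : ∀ x : X, (x = genericPoint X ∨ Order.coheight x = 1) →
      ∃ (b : Module.Basis (Fin r) (X.presheaf.stalk x) (H.presheaf.stalk x))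
        (b' : Module.Basis (Fin r) (X.presheaf.stalk x) (G.presheaf.stalk x)),
        (bη hG htG b').det u = ((bη hH htf b).det v) ^ p := by
    intro x hx
    obtain ⟨W, s, s', hxW, hs, hs', hss⟩ := chart x hx
    obtain ⟨b, hb⟩ := exists_stalk_basis hs hxW
    obtain ⟨eT, heT⟩ := exists_stalk_basis hs' hxW
    let b' := eT.map (LinearEquiv.ofBijective (RefHull.stalkMapₗ ψ x) (hψb x hx))
    refine ⟨b, b', ?_⟩
    let Q : X.Opens := O ⊓ W.1
    have hηQ : genericPoint X ∈ Q := ⟨hηO, Groth.Agent.Div89.genericPoint_mem hxW⟩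
    let bQ := secBasis hs (inf_le_right : Q ≤ W.1)
    have h1 : ∀ j, germM T O (genericPoint X) hηO (Amp73.pullS (FrobSch.frob X p) H O (t j)) =
        ∑ k, (X.presheaf.germ Q (genericPoint X) hηQ (bQ.repr (res H inf_le_left (t j)) k)) ^ p •
          germM T W.1 (genericPoint X) hηQ.2 (s' k) := by
      intro j
      rw [← germM_res (M := T) (inf_le_left : Q ≤ O) hηQ]
      have e1 : res T (inf_le_left : Q ≤ O) (Amp73.pullS (FrobSch.frob X p) H O (t j)) =
          Amp73.pullS (FrobSch.frob X p) H Q (res H inf_le_left (t j)) :=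
        Amp73.res_pullS (FrobSch.frob X p) H (inf_le_left : Q ≤ O) (t j)
      rw [e1]
      have e2 : Amp73.pullS (FrobSch.frob X p) H Q (res H inf_le_left (t j)) =
          ∑ k, (bQ.repr (res H inf_le_left (t j)) k) ^ p • res T (inf_le_right : Q ≤ W.1) (s' k) := by
        conv_lhs => rw [← bQ.sum_repr (res H inf_le_left (t j))]
        refine (map_sum (AddMonoidHom.mk' (Amp73.pullS (FrobSch.frob X p) H Q) fun a b =>
          map_add (((Scheme.Modules.pullbackPushforwardAdjunction (FrobSch.frob X p)).unit.app H).app Q).hom a b) _ _).trans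
          (Finset.sum_congr rfl fun k _ => ?_)
        show Amp73.pullS (FrobSch.frob X p) H Q (_ • bQ k) = _
        rw [Amp73.pullS_smul, FrobSch.frob_app, secBasis_apply, hss]
        exact congrArg _ (Amp73.res_pullS (FrobSch.frob X p) H (inf_le_right : Q ≤ W.1) (s k)).symm
      rw [e2]
      refine (germM_sum (M := T) _ hηQ _).trans (Finset.sum_congr rfl fun k _ => ?_)
      rw [germM_smul, map_pow, germM_res]
    have h2 : ∀ j, v j = ∑ k, (X.presheaf.germ Q (genericPoint X) hηQ (bQ.repr (res H inf_le_left (t j)) k)) •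
        bη hH htf b k := by
      intro j
      have h := congrArg (germM H Q (genericPoint X) hηQ) (bQ.sum_repr (res H inf_le_left (t j))).symm
      rw [germM_sum] at h
      rw [← ht j]
      refine (germM_res (inf_le_left : Q ≤ O) hηQ (t j)).symm.trans (h.trans (Finset.sum_congr rfl fun k _ => ?_))
      rw [germM_smul, secBasis_apply, germM_res, bη_apply, hb, toη_germ]
    let A : Matrix (Fin r) (Fin r) Γ(X, Q) := Matrix.of fun k j => bQ.repr (res H inf_le_left (t j)) k
    have hA : (bη hH htf b).toMatrix v = A.map (X.presheaf.germ Q (genericPoint X) hηQ) := by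
      ext k j
      rw [Module.Basis.toMatrix_apply, h2 j, Module.Basis.repr_sum_self]
      rfl
    have hA' : (bη hG htG b').toMatrix u = (A.map ((FrobSch.frob X p).app Q).hom).map (X.presheaf.germ Q (genericPoint X) hηQ) := by
      ext k j
      rw [Module.Basis.toMatrix_apply]
      have hu : u j = ∑ k, (X.presheaf.germ Q (genericPoint X) hηQ (bQ.repr (res H inf_le_left (t j)) k)) ^ p •
          bη hG htG b' k := by
        show RefHull.stalkMapₗ ψ _ _ = _
        rw [h1 j, map_sum]
        refine Finset.sum_congr rfl fun k _ => ?_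
        rw [map_smul, bη_apply, Module.Basis.map_apply, heT, ← toη_germ T x hxW, stalkMapₗ_toη]
        rfl
      rw [hu, Module.Basis.repr_sum_self]
      show _ = X.presheaf.germ Q (genericPoint X) hηQ ((FrobSch.frob X p).app Q (A k j))
      rw [FrobSch.frob_app, map_pow]
      rfl
    let g : Γ(X, Q) →+* X.presheaf.stalk (genericPoint X) := (X.presheaf.germ Q (genericPoint X) hηQ).hom
    let f : Γ(X, Q) →+* Γ(X, Q) := ((FrobSch.frob X p).app Q).hom
    rw [Module.Basis.det_apply, Module.Basis.det_apply, hA, hA']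
    show ((A.map f).map g).det = (A.map g).det ^ p
    rw [show ((A.map f).map g).det = g ((A.map f).det) from (g.map_det _).symm,
      show (A.map f).det = f A.det from (f.map_det _).symm, show (A.map g).det = g A.det from (g.map_det _).symm]
    show g ((FrobSch.frob X p).app Q A.det) = _
    rw [FrobSch.frob_app, map_pow]
  obtain ⟨b₀, b₀', h₀⟩ := coords (genericPoint X) (Or.inl rfl)
  have hu : IsUnit ((bη hG htG b₀').det u) := h₀ ▸ (Module.Basis.isUnit_det _ v).pow p
  obtain ⟨hli, hsp⟩ := (Module.Basis.is_basis_iff_det (bη hG htG b₀')).2 hu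
  refine ⟨hG, htG, Module.Basis.mk hli hsp.ge, fun x hc b b' => ?_⟩
  obtain ⟨c, c', h⟩ := coords x (Or.inr hc)
  have hd : ((bη hH htf c).det v : X.functionField) ≠ 0 := (Module.Basis.isUnit_det _ _).ne_zero
  have hd' : ((bη hG htG c').det u : X.functionField) ≠ 0 := by rw [h]; exact pow_ne_zero p hd
  rw [Module.Basis.coe_mk, ord_det_change hG htG hc b' c' hd', ord_det_change hH htf hc b c hd,
    show ((bη hG htG c').det u : X.functionField) = ((bη hH htf c).det v : X.functionField) ^ p from h,
    ord_pow_nat _ hd hc p]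

/-- The classes of reflexive Frobenius pull-backs are affine in the power of the characteristic. -/
theorem frobPull_mem {δ : X → ℤ} {n : ℤ} (hN : Pi1.IsNormalScheme X) (hX : Cyc.IsSetup X δ)
    (hn : δ (genericPoint X) = n) {E : X.Modules} (hE : Coh.IsCoh E) (hEr : RefHull.IsReflexive E)
    (G : ℕ → X.Modules) (hG0 : G 0 = E)
    (hG : ∀ m, Nonempty (G (m + 1) ≅ RefHull.ddual ((Scheme.Modules.pullback (FrobSch.frob X p)).obj (G m)))) :
    ∃ (r : ℤ) (P : X.Modules), RefHull.IsRef1 P ∧ ∀ m : ℕ, Coh.IsCoh (G m) ∧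
      KZero.clSub (Cyc.CohLe δ n) (G m) - (r • KZero.clSub (Cyc.CohLe δ n) (Coh.structureModule X) -
        ((p ^ m : ℕ) : ℤ) • (KZero.clSub (Cyc.CohLe δ n) (Coh.structureModule X) - KZero.clSub (Cyc.CohLe δ n) P)) ∈
        filt δ n (n - 2) := by
  have htf : TorSh.IsTorsionFree E := fun x =>
    torsionFree_of_reflexive E (fun y => (isReflexive_iff_forall_isReflexiveAt E hE).1 hEr y) x
  haveI : Module.Free (X.presheaf.stalk (genericPoint X)) (E.presheaf.stalk (genericPoint X)) :=
    @Module.Free.of_divisionRing X.functionField _ _ _ _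
  haveI : Module.Finite (X.presheaf.stalk (genericPoint X)) (E.presheaf.stalk (genericPoint X)) := by
    haveI := hE.1
    haveI := hE.2
    exact finite_stalk_of_isFiniteType (M := E) _
  obtain ⟨r, hr⟩ : ∃ r : ℕ, Module.finrank (X.presheaf.stalk (genericPoint X)) (E.presheaf.stalk (genericPoint X)) = r :=
    ⟨_, rfl⟩
  let v := Module.finBasisOfFinrankEq (X.presheaf.stalk (genericPoint X)) (E.presheaf.stalk (genericPoint X)) hr
  obtain ⟨P, q, hP, hq, hd, -⟩ := exists_detDiv hN hX hn r E hE htf v
  have step : ∀ m : ℕ, ∃ (hc : Coh.IsCoh (G m)) (ht : TorSh.IsTorsionFree (G m))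
      (w : Module.Basis (Fin r) (X.presheaf.stalk (genericPoint X)) ((G m).presheaf.stalk (genericPoint X))),
      ∀ x : X, Order.coheight x = 1 → ∀ b : Module.Basis (Fin r) (X.presheaf.stalk x) ((G m).presheaf.stalk x),
        Scheme.ord ((bη hc ht b).det w : X.functionField) x = ((p ^ m : ℕ) : ℤ) * sord P x q := by
    intro m
    induction m with
    | zero =>
      subst hG0
      exact ⟨hE, htf, v, fun x hx b => by rw [pow_zero, Nat.cast_one, one_mul, hd x hx b]⟩
    | succ m ih =>
      obtain ⟨hc, ht, w, hw⟩ := ih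
      obtain ⟨e⟩ := hG m
      obtain ⟨hc', ht', w', hw'⟩ := exists_frob_basis p hN hc ht w e
      refine ⟨hc', ht', w', fun x hx b => ?_⟩
      obtain ⟨b₀⟩ := exists_basis_codim_one hN hc ht w hx
      rw [hw' x hx b₀ b, hw x hx b₀]
      push_cast; ring
  refine ⟨(r : ℤ), P, hP, fun m => ?_⟩
  obtain ⟨hc, ht, w, hw⟩ := step m
  refine ⟨hc, ?_⟩
  obtain ⟨Pm, qm, hPm, hqm, hdm, hclm⟩ := exists_detDiv hN hX hn r (G m) hc ht w
  obtain ⟨hR, z, hz, hzx⟩ := exists_refPow_sord hN hP hq (p ^ m)
  obtain ⟨e⟩ := iso_of_sord hN hPm hR hqm hz fun x hx => by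
    obtain ⟨b⟩ := exists_basis_codim_one hN hc ht w hx
    rw [hdm x hx b, hw x hx b, hzx x hx]
  have h1 := refPow_mem hN hX hn hP (p ^ m)
  rw [← clSub_congr_iso e (cohLe_top hX hn hPm.1) (cohLe_top hX hn hR.1)] at h1
  have h2 : (QuotientAddGroup.mk (KZero.clSub (Cyc.CohLe δ n) (G m) + KZero.clSub (Cyc.CohLe δ n) (Coh.structureModule X)) :
      Cyc.K0CohQuot δ n (n - 2)) = QuotientAddGroup.mk ((r : ℤ) • KZero.clSub (Cyc.CohLe δ n) (Coh.structureModule X) +
        KZero.clSub (Cyc.CohLe δ n) Pm) := hclm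
  have h3 : _ ∈ filt δ n (n - 2) := QuotientAddGroup.eq_iff_sub_mem.1 h2
  have := sub_mem h3 h1
  convert this using 1
  abel

end Groth.Agent.RefCh18
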