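import Groth.Agent.RefCh18.FrobTf
import Groth.Agent.Pinch99.Faithful
import Groth.Agent.Cyc90.Dev.DualPull

/-! Reflexive hulls are determined in codimension one; inverse images of charts. -/

set_option autoImplicit false
set_option backward.isDefEq.respectTransparency.types false
set_option linter.style.haveILetI false
universe u

open CategoryTheory CategoryTheory.Limits AlgebraicGeometry TopologicalSpace IsLocalRing

noncomputable section

namespace Groth.Agent.RefCh18

open Groth.Agent Groth.Agent.QC70 Groth.Agent.Props58.LocFree Groth.Agent.Div89 Groth.Agent.Div89.Ref1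

variable {X : Scheme.{u}}

/-- A morphism carrying a stalk basis to a stalk basis is bijective on the stalks. -/
theorem bijective_of_chart {A B : X.Modules} (ψ : A ⟶ B) {W : X.Opens} {r : ℕ} {s : Fin r → Γ(A, W)}
    (hs : StalkBasis s) (hs' : StalkBasis fun i => ψ.app W (s i)) {x : X} (hx : x ∈ W) :
    Function.Bijective (RefHull.stalkMapₗ ψ x) := by
  have e : germComb (fun i => ψ.app W (s i)) x hx = RefHull.stalkMapₗ ψ x ∘ germComb s x hx := by
    funext c
    simp only [germComb, Function.comp_apply, map_sum, map_smul]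
    exact Finset.sum_congr rfl fun i _ => congrArg (c i • ·) (RefHull.stalkMapₗ_germ ψ x hx (s i)).symm
  exact (Function.Bijective.of_comp_iff _ (hs x hx)).1 (e ▸ hs' x hx)

/-- A morphism bijective on the stalks of an open carries stalk bases to stalk bases. -/
theorem stalkBasis_map {A B : X.Modules} (ψ : A ⟶ B) {W : X.Opens} {r : ℕ} {s : Fin r → Γ(A, W)}
    (hs : StalkBasis s) (h : ∀ x ∈ W, Function.Bijective (RefHull.stalkMapₗ ψ x)) :
    StalkBasis fun i => ψ.app W (s i) := fun x hx => by
  have e : germComb (fun i => ψ.app W (s i)) x hx = RefHull.stalkMapₗ ψ x ∘ germComb s x hx := by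
    funext c
    simp only [germComb, Function.comp_apply, map_sum, map_smul]
    exact Finset.sum_congr rfl fun i _ => congrArg (c i • ·) (RefHull.stalkMapₗ_germ ψ x hx (s i)).symm
  exact e ▸ (h x hx).comp (hs x hx)

/-- The biduality map is bijective on a chart. -/
theorem bijective_bidual_chart {A : X.Modules} [IsLocallyNoetherian X] (hA : Coh.IsCoh A) {W : X.Opens} {r : ℕ}
    {s : Fin r → Γ(A, W)} (hs : StalkBasis s) {x : X} (hx : x ∈ W) :
    Function.Bijective (RefHull.stalkMapₗ (RefHull.bidualMap A) x) := by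
  obtain ⟨e, -⟩ := exists_stalk_basis hs hx
  haveI := Module.Free.of_basis e
  haveI := Module.Finite.of_basis e
  exact bijective_stalk_bidual _ hA x
    (show Module.IsReflexive (X.presheaf.stalk x) (A.presheaf.stalk x) from inferInstance)

/-- Inverse images of isomorphisms on a chart. -/
theorem bijective_pullback_of_chart {Y : Scheme.{u}} (f : Y ⟶ X) {A B : X.Modules} (ψ : A ⟶ B) {W : X.Opens}
    {r : ℕ} {s : Fin r → Γ(A, W)} (hs : StalkBasis s) (hs' : StalkBasis fun i => ψ.app W (s i))
    {y : Y} (hy : f y ∈ W) :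
    Function.Bijective (RefHull.stalkMapₗ ((Scheme.Modules.pullback f).map ψ) y) := by
  refine bijective_of_chart _ (Pinch99.stalkBasis_pullS f hs) ?_ hy
  have e : (fun i => ((Scheme.Modules.pullback f).map ψ).app (f ⁻¹ᵁ W) (Amp73.pullS f A W (s i))) =
      fun i => Amp73.pullS f B W (ψ.app W (s i)) := funext fun i => Amp73.map_app_pullS f ψ W (s i)
  exact e ▸ Pinch99.stalkBasis_pullS f hs'

variable [IsIntegral X] [IsLocallyNoetherian X]

/-- Reflexive modules receiving a map bijective in codimension at most one are reflexive hulls. -/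
theorem nonempty_iso_ddual (hN : Pi1.IsNormalScheme X) {A B : X.Modules} (hA : Coh.IsCoh A) (hB : Coh.IsCoh B)
    (hBr : ∀ x : X, RefHull.IsReflexiveAt B x) (ψ : A ⟶ B)
    (hψ : ∀ x : X, (x = genericPoint X ∨ Order.coheight x = 1) → Function.Bijective (RefHull.stalkMapₗ ψ x))
    (hb : ∀ x : X, (x = genericPoint X ∨ Order.coheight x = 1) →
      Function.Bijective (RefHull.stalkMapₗ (RefHull.bidualMap A) x)) :
    Nonempty (RefHull.ddual A ≅ B) := by
  let D := RefHull.ddual A
  have hD : Coh.IsCoh D := isCoh_dual _ (isCoh_dual _ hA)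
  have hDr := isReflexiveAt_ddual A hA
  let e1 := LinearEquiv.ofBijective (RefHull.stalkMapₗ (RefHull.bidualMap A) (genericPoint X)) (hb _ (Or.inl rfl))
  let e2 := LinearEquiv.ofBijective (RefHull.stalkMapₗ ψ (genericPoint X)) (hψ _ (Or.inl rfl))
  let T := e1.symm.trans e2
  have h1 : ∀ (x : X), Order.coheight x = 1 → Set.MapsTo T.toLinearMap (Set.range (toη D x)) (Set.range (toη B x)) := by
    rintro x hc _ ⟨d, rfl⟩
    obtain ⟨a, rfl⟩ := (hb x (Or.inr hc)).2 d
    refine ⟨RefHull.stalkMapₗ ψ x a, ?_⟩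
    show _ = e2 (e1.symm _)
    rw [← stalkMapₗ_toη, ← stalkMapₗ_toη,
      show RefHull.stalkMapₗ (RefHull.bidualMap A) (genericPoint X) (toη A x a) = e1 (toη A x a) from rfl,
      LinearEquiv.symm_apply_apply]
    rfl
  have h2 : ∀ (x : X), Order.coheight x = 1 →
      Set.MapsTo T.symm.toLinearMap (Set.range (toη B x)) (Set.range (toη D x)) := by
    rintro x hc _ ⟨b, rfl⟩
    obtain ⟨a, rfl⟩ := (hψ x (Or.inr hc)).2 b
    refine ⟨RefHull.stalkMapₗ (RefHull.bidualMap A) x a, ?_⟩
    show _ = e1 (e2.symm _)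
    rw [← stalkMapₗ_toη, ← stalkMapₗ_toη,
      show RefHull.stalkMapₗ ψ (genericPoint X) (toη A x a) = e2 (toη A x a) from rfl,
      LinearEquiv.symm_apply_apply]
    rfl
  obtain ⟨f, hf⟩ := exists_hom hN B hB hBr D T.toLinearMap h1
  obtain ⟨g, hg⟩ := exists_hom hN D hD hDr B T.symm.toLinearMap h2
  refine ⟨⟨f, g, hom_ext D hD hDr _ _ _ ?_, hom_ext B hB hBr _ _ _ ?_⟩⟩
  · rw [RefFun.stalkMapₗ_comp, RefFun.stalkMapₗ_id, hf, hg]
    exact LinearMap.ext fun v => T.symm_apply_apply v
  · rw [RefFun.stalkMapₗ_comp, RefFun.stalkMapₗ_id, hf, hg]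
    exact LinearMap.ext fun v => T.apply_symm_apply v

end Groth.Agent.RefCh18
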