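import Groth.Agent.RefCh18.Cap

/-! The alternating sums as iterated first Chern classes. -/

set_option autoImplicit false
set_option backward.isDefEq.respectTransparency.types false
universe u

open CategoryTheory CategoryTheory.Limits AlgebraicGeometry TopologicalSpace

noncomputable section

namespace Groth.Agent.RefCh18

open Groth.Agent Groth.Agent.Cyc90 Groth.Agent.Cyc90.Dev

variable {X : Scheme.{u}} {δ : X → ℤ} {n : ℤ}

theorem invertible_right {L M : X.Modules} (e : Nonempty (CohB1.tensorMod L M ≅ Coh.structureModule X)) :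
    PicF.IsInvertible M :=
  e.elim fun e => Inv57.isInvertible_of_tensorMod_iso ((EGA73.tensComm M L) ≪≫ e)

theorem sum_clSub_sub (hX : Cyc.IsSetup X δ) {r : ℕ} (M : Fin r → X.Modules) (hM : ∀ i, PicF.IsInvertible (M i))
    {F G : X.Modules} (hF : Cyc.CohLe δ n F) (hG : Cyc.CohLe δ n G) :
    ∑ I : Finset (Fin r), ((-1 : ℤ) ^ I.card) •
      (KZero.clSub (Cyc.CohLe δ n) (CohB1.tensorMod (FGA.tensorList ((I.sort (· ≤ ·)).map M)) F) -
        KZero.clSub (Cyc.CohLe δ n) (CohB1.tensorMod (FGA.tensorList ((I.sort (· ≤ ·)).map M)) G)) =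
      capHom hX M hM (KZero.clSub (Cyc.CohLe δ n) F - KZero.clSub (Cyc.CohLe δ n) G) := by
  rw [map_sub, capHom_clSub hX M hM hF, capHom_clSub hX M hM hG, ← Finset.sum_sub_distrib]
  exact Finset.sum_congr rfl fun I _ => smul_sub _ _ _

theorem capOp_tensor (hX : Cyc.IsSetup X δ) {S T : X.Modules} (hS : PicF.IsInvertible S) (hT : PicF.IsInvertible T)
    (hST : PicF.IsInvertible (CohB1.tensorMod S T)) (x : KZero.K0sub (Cyc.CohLe δ n)) :
    capOp hX hST x = capOp hX hS x + capOp hX hT x - capOp hX hS (capOp hX hT x) := by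
  simp only [capOp_apply, map_sub]
  rw [show tensOp hX hST x = tensOp hX hS (tensOp hX hT x) from tensOp_tensor hX hS hT x]
  abel

theorem isInvertible_cons {r : ℕ} {T : X.Modules} (hT : PicF.IsInvertible T) {M : Fin r → X.Modules}
    (hM : ∀ i, PicF.IsInvertible (M i)) (i : Fin (r + 1)) :
    PicF.IsInvertible ((Fin.cons T M : Fin (r + 1) → X.Modules) i) := by
  induction i using Fin.cases with
  | zero => exact hT
  | succ i => exact hM i

theorem capHom_cons (hX : Cyc.IsSetup X δ) {r : ℕ} {T : X.Modules} (hT : PicF.IsInvertible T) {M : Fin r → X.Modules}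
    (hM : ∀ i, PicF.IsInvertible (M i)) (x : KZero.K0sub (Cyc.CohLe δ n)) :
    capHom hX (Fin.cons T M) (isInvertible_cons hT hM) x = capHom hX M hM (capOp hX hT x) := rfl

variable [IsIntegral X]

theorem clSub_unit_sub_mem [IsLocallyNoetherian X] (hN : Pi1.IsNormalScheme X) (hX : Cyc.IsSetup X δ)
    (hn : δ (genericPoint X) = n) {F : X.Modules} (hF : RefHull.IsRef1 F) :
    KZero.clSub (Cyc.CohLe δ n) (Coh.structureModule X) - KZero.clSub (Cyc.CohLe δ n) F ∈ filt δ n (n - 1) :=
  toK_eq_iff.1 (toK_ref1_eq_unit hN hX hn hF)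

theorem refTensor_mem [IsLocallyNoetherian X] (hN : Pi1.IsNormalScheme X) (hX : Cyc.IsSetup X δ)
    (hn : δ (genericPoint X) = n) {F G : X.Modules} (hF : RefHull.IsRef1 F) (hG : RefHull.IsRef1 G) :
    (KZero.clSub (Cyc.CohLe δ n) (Coh.structureModule X) - KZero.clSub (Cyc.CohLe δ n) (RefPow.refTensor F G)) -
      ((KZero.clSub (Cyc.CohLe δ n) (Coh.structureModule X) - KZero.clSub (Cyc.CohLe δ n) F) +
        (KZero.clSub (Cyc.CohLe δ n) (Coh.structureModule X) - KZero.clSub (Cyc.CohLe δ n) G)) ∈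
      filt δ n (n - 2) := by
  have h := toK_refTensor hN hX hn (k := n - 1) (by ring) hF hG
  rw [show n - 1 - 1 = n - 2 by ring] at h
  have h' : (QuotientAddGroup.mk (KZero.clSub (Cyc.CohLe δ n) F + KZero.clSub (Cyc.CohLe δ n) G) :
      Cyc.K0CohQuot δ n (n - 2)) = QuotientAddGroup.mk (KZero.clSub (Cyc.CohLe δ n) (RefPow.refTensor F G) +
        KZero.clSub (Cyc.CohLe δ n) (Coh.structureModule X)) := h.symm
  have := QuotientAddGroup.eq_iff_sub_mem.1 h'
  show _ ∈ filt δ n (n - 2)
  change _ ∈ filt δ n (n - 2) at this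
  convert this using 1; abel

theorem isRef1_refTensor [IsLocallyNoetherian X] (hN : Pi1.IsNormalScheme X) {F G : X.Modules}
    (hF : RefHull.IsRef1 F) (hG : RefHull.IsRef1 G) : RefHull.IsRef1 (RefPow.refTensor F G) := by
  obtain ⟨v, hv⟩ := Groth.Agent.Div89.Ref1.exists_ne_zero hN hF
  obtain ⟨w, hw⟩ := Groth.Agent.Div89.Ref1.exists_ne_zero hN hG
  exact (Groth.Agent.Div89.Ref1.exists_refTensor hN hF hG hv hw).1

end Groth.Agent.RefCh18
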