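import Groth.Agent.RefCh18.Det
import Mathlib.LinearAlgebra.FreeModule.PID
import Mathlib.LinearAlgebra.Matrix.Determinant.Basic

/-! Classes of torsion free modules modulo codimension two. -/

set_option autoImplicit false
set_option backward.isDefEq.respectTransparency.types false
set_option linter.style.haveILetI false
universe u

open CategoryTheory CategoryTheory.Limits AlgebraicGeometry TopologicalSpace IsLocalRing

noncomputable section

namespace Groth.Agent.RefCh18

open Groth.Agent Groth.Agent.QC70 Groth.Agent.Props58.LocFree Groth.Agent.Div89 Groth.Agent.Div89.Ref1 Groth.Agent.Cyc90 Groth.Agent.Cyc90.Dev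

variable {X : Scheme.{u}} [IsIntegral X] [IsLocallyNoetherian X] {δ : X → ℤ} {n : ℤ}

theorem exists_basis_codim_one (hN : Pi1.IsNormalScheme X) {F : X.Modules} (hF : Coh.IsCoh F)
    (htf : TorSh.IsTorsionFree F) {r : ℕ}
    (v : Module.Basis (Fin r) (X.presheaf.stalk (genericPoint X)) (F.presheaf.stalk (genericPoint X)))
    {x : X} (hc : Order.coheight x = 1) :
    Nonempty (Module.Basis (Fin r) (X.presheaf.stalk x) (F.presheaf.stalk x)) := by
  haveI := isDVR hN hc
  haveI : F.IsQuasicoherent := hF.1
  haveI : F.IsFiniteType := hF.2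
  haveI := finite_stalk_of_isFiniteType (M := F) x
  haveI := htf x
  haveI : Module.Free (X.presheaf.stalk x) (F.presheaf.stalk x) := Module.free_of_finite_type_torsion_free'
  let b := Module.Free.chooseBasis (X.presheaf.stalk x) (F.presheaf.stalk x)
  exact ⟨b.reindex ((bη hF htf b).indexEquiv v)⟩

/-- The divisor of a rational section is the divisor of the determinant of the generic basis. -/
def DetDiv {F : X.Modules} (hF : Coh.IsCoh F) (htf : TorSh.IsTorsionFree F) {r : ℕ}
    (v : Fin r → F.presheaf.stalk (genericPoint X)) (P : X.Modules) (p : P.presheaf.stalk (genericPoint X)) : Prop :=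
  ∀ x : X, Order.coheight x = 1 → ∀ e : Module.Basis (Fin r) (X.presheaf.stalk x) (F.presheaf.stalk x),
    sord P x p = Scheme.ord ((bη hF htf e).det v : X.functionField) x

theorem ord_spc_unit {x : X} (hc : Order.coheight x = 1) (u : (X.presheaf.stalk x)ˣ) :
    Scheme.ord (spc x u : X.functionField) x = 0 :=
  ord_algebraMap_of_isUnit hc u.isUnit

theorem ord_det_change {F : X.Modules} (hF : Coh.IsCoh F) (htf : TorSh.IsTorsionFree F) {x : X}
    (hc : Order.coheight x = 1) {r : ℕ} (e e' : Module.Basis (Fin r) (X.presheaf.stalk x) (F.presheaf.stalk x))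
    {v : Fin r → F.presheaf.stalk (genericPoint X)}
    (hv : ((bη hF htf e').det v : X.functionField) ≠ 0) :
    Scheme.ord ((bη hF htf e).det v : X.functionField) x = Scheme.ord ((bη hF htf e').det v : X.functionField) x := by
  obtain ⟨u, hu⟩ := det_bη_change hF htf e e' v
  have hu0 : (spc x u : X.functionField) ≠ 0 := (map_ne_zero_iff _ (spc_injective x)).2 u.ne_zero
  rw [show ((bη hF htf e).det v : X.functionField) = (spc x u : X.functionField) * ((bη hF htf e').det v : X.functionField) from hu,
    Scheme.ord_mul hu0 hv, ord_spc_unit hc u, zero_add]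

/-- An injection bijective in codimension at most one does not change the class modulo codimension two. -/
theorem toK_eq_of_codim_one (hX : Cyc.IsSetup X δ) (hn : δ (genericPoint X) = n) {F G : X.Modules}
    (hF : Coh.IsCoh F) (hG : Coh.IsCoh G) (ψ : F ⟶ G)
    (hinj : ∀ x : X, Function.Injective (RefHull.stalkMapₗ ψ x))
    (hsur : ∀ x : X, (x = genericPoint X ∨ Order.coheight x = 1) → Function.Surjective (RefHull.stalkMapₗ ψ x)) :
    Cyc.toK0CohQuot δ n (n - 2) F = Cyc.toK0CohQuot δ n (n - 2) G := by
  have : Mono ψ := mono_of_injective_stalkMapM ψ hinj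
  let S := ShortComplex.mk ψ (cokernel.π ψ) (cokernel.condition ψ)
  have hS : S.ShortExact :=
    { exact := ShortComplex.exact_of_g_is_cokernel _ (cokernelIsCokernel ψ)
      mono_f := ‹_›
      epi_g := inferInstanceAs (Epi (cokernel.π ψ)) }
  have hQc : Coh.IsCoh (cokernel ψ) := Crv77.isCoh_cokernel ψ hF hG
  have hQle : Cyc.CohLe δ (n - 2) (cokernel ψ) := ⟨hQc, fun x hx => by
    by_contra h
    have h1 := delta_le_top hX hn x
    have hx' : x = genericPoint X ∨ Order.coheight x = 1 := by
      rcases (show δ x = n ∨ δ x = n - 1 by omega) with h2 | h2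
      · exact Or.inl (eq_generic hX hn h2)
      · exact Or.inr ((coheight_one_iff hX hn x).2 h2)
    refine not_subsingleton_iff_nontrivial.2 hx (subsingleton_of_forall_eq 0 fun q => ?_)
    obtain ⟨g, rfl⟩ := surjective_stalkMapM_of_epi (cokernel.π ψ) x q
    obtain ⟨f, rfl⟩ := hsur x hx' g
    change stalkMapM (cokernel.π ψ) x (stalkMapM ψ x f) = 0
    rw [← stalkMapM_comp, cokernel.condition, stalkMapM_zero]⟩
  have e := toK_add (b := n - 2) hS (cohLe_top hX hn hF) (cohLe_top hX hn hG) (cohLe_mono hQle (by omega))
  have hz : Cyc.toK0CohQuot δ n (n - 2) (cokernel ψ) = 0 :=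
    (QuotientAddGroup.eq_zero_iff _).2 (AddSubgroup.subset_closure ⟨_, hQle, rfl⟩)
  rw [show Cyc.toK0CohQuot δ n (n - 2) G = _ from e, hz, add_zero]

/-- The class of a torsion free module modulo codimension two is given by the determinant divisor. -/
theorem exists_detDiv (hN : Pi1.IsNormalScheme X) (hX : Cyc.IsSetup X δ) (hn : δ (genericPoint X) = n) :
    ∀ (r : ℕ) (F : X.Modules) (hF : Coh.IsCoh F) (htf : TorSh.IsTorsionFree F)
      (v : Module.Basis (Fin r) (X.presheaf.stalk (genericPoint X)) (F.presheaf.stalk (genericPoint X))),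
      ∃ (P : X.Modules) (p : P.presheaf.stalk (genericPoint X)), RefHull.IsRef1 P ∧ p ≠ 0 ∧ DetDiv hF htf v P p ∧
        Cyc.toK0CohQuot δ n (n - 2) F + Cyc.toK0CohQuot δ n (n - 2) (Coh.structureModule X) =
          (r : ℤ) • Cyc.toK0CohQuot δ n (n - 2) (Coh.structureModule X) + Cyc.toK0CohQuot δ n (n - 2) P := by
  intro r
  induction r with
  | zero =>
    intro F hF htf v
    obtain ⟨o, ho, hox⟩ := exists_unit_section (X := X)
    refine ⟨_, o, isRef1_structureModule, ho, fun x hc e => ?_, ?_⟩
    · rw [hox x hc, show ((bη hF htf e).det v : X.functionField) = 1 by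
        rw [Module.Basis.det_apply, Matrix.det_fin_zero]]
      exact (ord_one' hc).symm
    · have hz : Cyc.toK0CohQuot δ n (n - 2) F = 0 := by
        refine (QuotientAddGroup.eq_zero_iff _).2 (AddSubgroup.subset_closure ⟨F, ⟨hF, fun x hx => ?_⟩, rfl⟩)
        exfalso
        haveI : Subsingleton (F.presheaf.stalk (genericPoint X)) := v.repr.toEquiv.subsingleton
        exact not_subsingleton_iff_nontrivial.2 hx (toη_injective F hF.1 htf x).subsingleton
      rw [hz, Nat.cast_zero, zero_zsmul]
  | succ r ih =>
    intro F hF htf v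
    have hFn := cohLe_top hX hn hF
    let N : ∀ η : X, δ η = n → Submodule (X.presheaf.stalk η) (F.presheaf.stalk η) := fun η hη =>
      (eq_generic hX hn hη).symm ▸ Submodule.span (X.presheaf.stalk (genericPoint X)) {v 0}
    have hN' : N (genericPoint X) hn = Submodule.span (X.presheaf.stalk (genericPoint X)) {v 0} := rfl
    let L := (stalkSub N).mod
    let i : L ⟶ F := (stalkSub N).ι
    have hL : Coh.IsCoh L := (cohLe_stalkSub N hX hFn).1
    have hQc : Coh.IsCoh (cokernel i) := Crv77.isCoh_cokernel i hL hF
    let π := cokernel.π i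
    have hinj : ∀ x : X, Function.Injective (RefHull.stalkMapₗ i x) := fun x => injective_stalkMapM_of_mono i x
    have hsurj : ∀ x : X, Function.Surjective (RefHull.stalkMapₗ π x) := fun x => surjective_stalkMapM_of_epi π x
    let S := ShortComplex.mk i π (cokernel.condition i)
    have hS : S.ShortExact :=
      { exact := ShortComplex.exact_of_g_is_cokernel _ (cokernelIsCokernel i)
        mono_f := inferInstanceAs (Mono i)
        epi_g := inferInstanceAs (Epi (cokernel.π i)) }
    have hex : ∀ x : X, Function.Exact (RefHull.stalkMapₗ i x) (RefHull.stalkMapₗ π x) := fun x e =>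
      ⟨stalkMapM_exact S hS.exact x e, by
        rintro ⟨d, rfl⟩
        change stalkMapM π x (stalkMapM i x d) = 0
        rw [← stalkMapM_comp, cokernel.condition, stalkMapM_zero]⟩
    have hrη : ∀ z, z ∈ Set.range (RefHull.stalkMapₗ i (genericPoint X)) ↔
        z ∈ Submodule.span (X.presheaf.stalk (genericPoint X)) {v 0} := fun z => by
      rw [← hN', ← range_stalk_stalkSub N hX hFn hn]
      rfl
    have hsat : ∀ (x : X) (z : F.presheaf.stalk x), toη F x z ∈ Submodule.span (X.presheaf.stalk (genericPoint X)) {v 0} →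
        z ∈ Set.range (RefHull.stalkMapₗ i x) := by
      intro x z hz
      obtain ⟨W, hx, s, rfl⟩ := germM_exist z
      rw [toη_germ] at hz
      have hs : s ∈ (stalkSub N).obj W := fun y hy hd => by
        obtain rfl := eq_generic hX hn hd
        exact hz
      exact ⟨germM L W x hx (⟨s, hs⟩ : (stalkSub N).obj W), stalkMapM_germ i hx _⟩
    have htfL : TorSh.IsTorsionFree L := fun x => by
      haveI := htf x
      exact Function.Injective.moduleIsTorsionFree (RefHull.stalkMapₗ i x) (hinj x) fun c z => map_smul _ c z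
    have htfQ : TorSh.IsTorsionFree (cokernel i) := fun x => by
      refine ⟨fun a ha q q' h => ?_⟩
      rw [← sub_eq_zero]
      obtain ⟨z, hz⟩ := hsurj x (q - q')
      rw [← hz]
      refine (hex x _).2 (hsat x z ?_)
      have h1 : RefHull.stalkMapₗ π x (a • z) = 0 := by
        rw [map_smul, hz, smul_sub]
        exact sub_eq_zero.2 h
      obtain ⟨l, hl⟩ := (hex x _).1 h1
      have h2 : spc x a • toη F x z ∈ Submodule.span (X.presheaf.stalk (genericPoint X)) {v 0} := by
        rw [← toη_smul', ← hrη, ← hl, ← stalkMapₗ_toη]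
        exact ⟨_, rfl⟩
      have hu : (spc x a : X.functionField) ≠ 0 := (map_ne_zero_iff _ (spc_injective x)).2 ha.ne_zero
      have h3 := Submodule.smul_mem _ ((spc x a : X.functionField)⁻¹ : X.presheaf.stalk (genericPoint X)) h2
      rw [smul_smul, show ((spc x a : X.functionField)⁻¹ : X.presheaf.stalk (genericPoint X)) * spc x a = 1 from
        inv_mul_cancel₀ hu, one_smul] at h3
      exact h3
    obtain ⟨w₀, hw₀⟩ := (hrη (v 0)).2 (Submodule.mem_span_singleton_self _)
    have hw₀0 : w₀ ≠ 0 := fun h => v.ne_zero 0 (by rw [← hw₀, h, map_zero])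
    let w : Fin r → (cokernel i).presheaf.stalk (genericPoint X) := fun j => RefHull.stalkMapₗ π _ (v j.succ)
    have hπv0 : RefHull.stalkMapₗ π (genericPoint X) (v 0) = 0 := (hex _ _).2 ⟨w₀, hw₀⟩
    have hwi : LinearIndependent (X.presheaf.stalk (genericPoint X)) w := by
      refine Fintype.linearIndependent_iff.2 fun c hc j => ?_
      have h0 : RefHull.stalkMapₗ π _ (∑ j, c j • v j.succ) = 0 := by simpa [w, map_sum] using hc
      obtain ⟨l, hl⟩ := (hex _ _).1 h0
      obtain ⟨a, ha⟩ := Submodule.mem_span_singleton.1 ((hrη _).1 ⟨l, hl⟩)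
      have h1 : ∑ k : Fin (r + 1), (Fin.cons (-a) c : Fin (r + 1) → X.presheaf.stalk (genericPoint X)) k • v k = 0 := by
        rw [Fin.sum_univ_succ]
        simp only [Fin.cons_zero, Fin.cons_succ]
        rw [neg_smul, ha, neg_add_cancel]
      simpa using Fintype.linearIndependent_iff.1 v.linearIndependent _ h1 j.succ
    have hws : ⊤ ≤ Submodule.span (X.presheaf.stalk (genericPoint X)) (Set.range w) := by
      intro q _
      obtain ⟨z, rfl⟩ := hsurj _ q
      rw [← v.sum_repr z, map_sum]
      refine Submodule.sum_mem _ fun j _ => ?_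
      rw [map_smul]
      refine Submodule.smul_mem _ _ ?_
      induction j using Fin.cases with
      | zero => rw [hπv0]; exact zero_mem _
      | succ j => exact Submodule.subset_span ⟨j, rfl⟩
    obtain ⟨P', p', hP', hp', hd', hcls'⟩ := ih (cokernel i) hQc htfQ (Module.Basis.mk hwi hws)
    let vL : Module.Basis (Fin 1) (X.presheaf.stalk (genericPoint X)) (L.presheaf.stalk (genericPoint X)) := by
      refine Module.Basis.mk (v := fun _ => w₀) ?_ ?_
      · refine Fintype.linearIndependent_iff.2 fun c hc j => ?_
        rw [Fin.sum_univ_one] at hc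
        have h1 : ∑ k : Fin (r + 1), (Pi.single 0 (c 0) : Fin (r + 1) → X.presheaf.stalk (genericPoint X)) k • v k = 0 := by
          rw [Finset.sum_eq_single 0 (fun b _ hb => by rw [Pi.single_eq_of_ne hb, zero_smul]) (fun h => absurd (Finset.mem_univ _) h),
            Pi.single_eq_same, ← hw₀, ← map_smul, hc, map_zero]
        have := Fintype.linearIndependent_iff.1 v.linearIndependent _ h1 0
        rw [Pi.single_eq_same] at this
        rwa [Subsingleton.elim j 0]
      · intro l _
        obtain ⟨a, ha⟩ := Submodule.mem_span_singleton.1 ((hrη _).1 ⟨l, rfl⟩)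
        rw [show l = a • w₀ from hinj _ (by rw [map_smul, hw₀, ha])]
        exact Submodule.smul_mem _ _ (Submodule.subset_span ⟨0, rfl⟩)
    have hfr : ∀ x : X, x = genericPoint X ∨ Order.coheight x = 1 → Framed L x := by
      rintro x (rfl | hc)
      · refine framed_of_isGen hL w₀ ⟨fun a b hab => ?_, fun z => ?_⟩
        · have := Fintype.linearIndependent_iff.1 vL.linearIndependent (fun _ => a - b)
            (by rw [Fin.sum_univ_one]; simp only [vL, Module.Basis.mk_apply, sub_smul]; exact sub_eq_zero.2 hab) 0
          exact sub_eq_zero.1 this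
        · refine ⟨vL.repr z 0, ?_⟩
          conv_rhs => rw [← vL.sum_repr z]
          simp [vL]
      · obtain ⟨b⟩ := exists_basis_codim_one hN hL htfL vL hc
        refine framed_of_isGen hL (b 0) ⟨fun a a' hab => ?_, fun z => ⟨b.repr z 0, ?_⟩⟩
        · simpa using congrArg (fun t => b.repr t 0) hab
        · conv_rhs => rw [← b.sum_repr z]
          simp
    obtain ⟨hRL, pL, hpL, hpLx⟩ := exists_hull_sord hL (hfr _ (Or.inl rfl)) hw₀0
    have hclsL : Cyc.toK0CohQuot δ n (n - 2) L = Cyc.toK0CohQuot δ n (n - 2) (RefHull.ddual L) := by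
      have hb : ∀ x, (x = genericPoint X ∨ Order.coheight x = 1) →
          Function.Bijective (RefHull.stalkMapₗ (RefHull.bidualMap L) x) := fun x hx =>
        bijective_stalk_bidual _ hL x (isReflexiveAt_of_framed (hfr x hx))
      refine toK_eq_of_codim_one hX hn hL hRL.1 (RefHull.bidualMap L) (fun x a b hab => ?_) fun x hx => (hb x hx).2
      exact toη_injective L hL.1 htfL x ((hb _ (Or.inl rfl)).1 (by rw [stalkMapₗ_toη, stalkMapₗ_toη, hab]))
    obtain ⟨hP, p, hp, hpx⟩ := exists_refTensor hN hRL hP' hpL hp'
    refine ⟨_, p, hP, hp, fun x hc e => ?_, ?_⟩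
    · obtain ⟨eL⟩ := exists_basis_codim_one hN hL htfL vL hc
      obtain ⟨eQ⟩ := exists_basis_codim_one hN hQc htfQ (Module.Basis.mk hwi hws) hc
      choose q hq using fun j => hsurj x (eQ j)
      let b : Fin (r + 1) → F.presheaf.stalk x := Fin.cons (RefHull.stalkMapₗ i x (eL 0)) q
      have hbi : LinearIndependent (X.presheaf.stalk x) b := by
        refine Fintype.linearIndependent_iff.2 fun c hc => ?_
        simp only [Fin.sum_univ_succ, b, Fin.cons_zero, Fin.cons_succ] at hc
        have h1 := congrArg (RefHull.stalkMapₗ π x) hc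
        simp only [map_add, map_sum, map_smul, map_zero, (hex x _).2 ⟨eL 0, rfl⟩, smul_zero, zero_add, hq] at h1
        have h2 := Fintype.linearIndependent_iff.1 eQ.linearIndependent _ h1
        simp only [h2, zero_smul, Finset.sum_const_zero, add_zero, ← map_smul] at hc
        have h3 := hinj x (hc.trans (map_zero _).symm)
        have h4 := Fintype.linearIndependent_iff.1 eL.linearIndependent (fun _ => c 0)
          (by rw [Fin.sum_univ_one]; exact h3) 0
        intro k
        induction k using Fin.cases with
        | zero => exact h4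
        | succ k => exact h2 k
      have hbs : ⊤ ≤ Submodule.span (X.presheaf.stalk x) (Set.range b) := by
        intro z _
        have h1 : RefHull.stalkMapₗ π x (z - ∑ j, eQ.repr (RefHull.stalkMapₗ π x z) j • q j) = 0 := by
          rw [map_sub, map_sum]
          simp only [map_smul, hq]
          rw [eQ.sum_repr, sub_self]
        obtain ⟨l, hl⟩ := (hex x _).1 h1
        rw [show z = RefHull.stalkMapₗ i x l + ∑ j, eQ.repr (RefHull.stalkMapₗ π x z) j • q j by rw [hl]; abel]
        refine add_mem ?_ (Submodule.sum_mem _ fun j _ => Submodule.smul_mem _ _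
          (Submodule.subset_span ⟨j.succ, by simp [b]⟩))
        rw [← eL.sum_repr l, Fin.sum_univ_one, map_smul]
        exact Submodule.smul_mem _ _ (Submodule.subset_span ⟨0, by simp [b]⟩)
      let e' := Module.Basis.mk hbi hbs
      let a : X.presheaf.stalk (genericPoint X) := (bη hL htfL eL).repr w₀ 0
      let A : X.presheaf.stalk (genericPoint X) := (bη hQc htfQ eQ).det (Module.Basis.mk hwi hws)
      have ha : w₀ = a • toη L x (eL 0) := by
        conv_lhs => rw [← (bη hL htfL eL).sum_repr w₀, Fin.sum_univ_one, bη_apply]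
      have hM0 : ∀ k, (bη hF htf e').toMatrix v k 0 = (Pi.single 0 a : Fin (r + 1) → _) k := fun k => by
        have h1 : v 0 = a • bη hF htf e' 0 := by
          rw [← hw₀, ha, map_smul, stalkMapₗ_toη, bη_apply, Module.Basis.mk_apply]
          rfl
        rw [Module.Basis.toMatrix_apply, h1, map_smul, Module.Basis.repr_self, Finsupp.smul_single, smul_eq_mul, mul_one,
          Finsupp.single_eq_pi_single]
      have hMs : ∀ k j, (bη hF htf e').toMatrix v k.succ j.succ =
          (bη hQc htfQ eQ).toMatrix (Module.Basis.mk hwi hws) k j := fun k j => by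
        rw [Module.Basis.toMatrix_apply, Module.Basis.toMatrix_apply, Module.Basis.mk_apply]
        have h1 : w j = ∑ l, (bη hF htf e').repr (v j.succ) l.succ • bη hQc htfQ eQ l := by
          show RefHull.stalkMapₗ π _ (v j.succ) = _
          conv_lhs => rw [← (bη hF htf e').sum_repr (v j.succ)]
          rw [map_sum, Fin.sum_univ_succ]
          simp only [map_smul, bη_apply, stalkMapₗ_toη, e', Module.Basis.mk_apply, b, Fin.cons_zero, Fin.cons_succ,
            (hex x _).2 ⟨eL 0, rfl⟩, map_zero, smul_zero, zero_add, hq]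
        rw [h1, Module.Basis.repr_sum_self]
      have hdet : (bη hF htf e').det v = a * A := by
        simp only [Module.Basis.det_apply, A]
        rw [Matrix.det_succ_column_zero, Finset.sum_eq_single 0 (fun k _ hk => by
          rw [hM0, Pi.single_eq_of_ne hk, mul_zero, zero_mul]) (fun h => absurd (Finset.mem_univ _) h)]
        rw [hM0, Pi.single_eq_same]
        simp only [Fin.val_zero, pow_zero, one_mul, Fin.succAbove_zero]
        congr 2
        ext k j
        exact hMs k j
      have hA0 : (A : X.functionField) ≠ 0 := (Module.Basis.isUnit_det _ _).ne_zero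
      have ha0 : (a : X.functionField) ≠ 0 := fun h => hw₀0 (by rw [ha, show a = 0 from h, zero_smul])
      have hdet0 : ((bη hF htf e').det v : X.functionField) ≠ 0 := (Module.Basis.isUnit_det _ _).ne_zero
      rw [ord_det_change hF htf hc e e' hdet0, show sord _ x p = _ from hpx x hc,
        hpLx x hc (hfr x (Or.inr hc)), hd' x hc eQ,
        show ((bη hF htf e').det v : X.functionField) = (a : X.functionField) * (A : X.functionField) from hdet,
        Scheme.ord_mul ha0 hA0]
      congr 1
      rw [ha]
      refine sord_eq L hc (eL 0) ?_ (fun h => hw₀0 (by rw [ha, h, smul_zero])) a ha0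
      rw [eq_top_iff, ← eL.span_eq]
      exact Submodule.span_mono (by rintro _ ⟨j, rfl⟩; rw [Subsingleton.elim j 0]; rfl)
    · have h1 := toK_add (b := n - 2) hS (cohLe_top hX hn hL) hFn (cohLe_top hX hn hQc)
      have h2 := toK_refTensor hN hX hn (k := n - 1) (by ring) hRL hP'
      rw [show n - 1 - 1 = n - 2 by ring] at h2
      rw [show Cyc.toK0CohQuot δ n (n - 2) F = _ from h1]
      show Cyc.toK0CohQuot δ n (n - 2) L + Cyc.toK0CohQuot δ n (n - 2) (cokernel i) + _ = _
      rw [hclsL, add_assoc, hcls', Nat.cast_succ, add_zsmul, one_zsmul]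
      rw [add_left_comm, ← h2]
      abel

end Groth.Agent.RefCh18
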