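import Groth.Agent.RefCh18.Frob
import Groth.Agent.RefCh18.Pair

/-! Reflexive powers of twists by invertible modules. -/

set_option autoImplicit false
set_option backward.isDefEq.respectTransparency.types false
set_option linter.style.haveILetI false
universe u

open CategoryTheory CategoryTheory.Limits AlgebraicGeometry TopologicalSpace IsLocalRing

noncomputable section

namespace Groth.Agent.RefCh18

open Groth.Agent Groth.Agent.QC70 Groth.Agent.Div89 Groth.Agent.Div89.Ref1 Groth.Agent.Cyc90.Dev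

variable {X : Scheme.{u}} [IsIntegral X] [IsLocallyNoetherian X]

/-- Twisting a rank one reflexive module by an invertible module. -/
theorem twist_ref1 (hN : Pi1.IsNormalScheme X) {A P : X.Modules} (hA : PicF.IsInvertible A) (hP : RefHull.IsRef1 P)
    {a : A.presheaf.stalk (genericPoint X)} (ha : a ≠ 0) {v : P.presheaf.stalk (genericPoint X)} (hv : v ≠ 0) :
    RefHull.IsRef1 (CohB1.tensorMod A P) ∧
    ∃ w : (CohB1.tensorMod A P).presheaf.stalk (genericPoint X), w ≠ 0 ∧
      ∀ x : X, Order.coheight x = 1 → sord (CohB1.tensorMod A P) x w = sord A x a + sord P x v := by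
  haveI : P.IsQuasicoherent := hP.1.1
  haveI : P.IsFiniteType := hP.1.2
  have hA' := Groth.Agent.Amp73.isCoh_of_isInvertible hA
  have hfη : Framed (CohB1.tensorMod A P) (genericPoint X) := by
    obtain ⟨W, hW, e, he⟩ := framed_of_isInvertible hA (genericPoint X)
    obtain ⟨W', hW', e', he'⟩ := framed_of_isRef1 hN hP (Or.inl rfl)
    exact ⟨W ⊓ W', ⟨hW, hW'⟩, _, Amp73.isFrame_tm (he.res inf_le_left) (he'.res inf_le_right)⟩
  refine ⟨isRef1_of_framed (Amp73.isCoh_tensorMod hA' hP.1) (fun x => ?_) hfη, ?_⟩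
  · haveI : Module.IsReflexive (X.presheaf.stalk x) (P.presheaf.stalk x) := stalks_reflexive hP x
    obtain ⟨e⟩ := nonempty_stalk_equiv hA P x
    let e' := e.trans (LinearEquiv.ofBijective (QC70.stalkLinear (EGA73.tensComm P A).hom x)
      ⟨QC70.injective_stalkMapM_of_mono _ x, QC70.surjective_stalkMapM_of_epi _ x⟩)
    exact Module.IsReflexive.of_split e'.symm.toLinearMap e'.toLinearMap (LinearMap.ext fun z => e'.apply_symm_apply z)
  · obtain ⟨w, hw, hwx⟩ := exists_tensor_sord A P (framed_of_isInvertible hA _)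
      (framed_of_isRef1 hN hP (Or.inl rfl)) ha hv
    exact ⟨w, hw, fun x hc => (hwx x hc (framed_of_isInvertible hA x) (framed_of_isRef1 hN hP (Or.inr hc))).2⟩

/-- Iterated twists. -/
def iterT (A : X.Modules) : ℕ → X.Modules → X.Modules
  | 0, P => P
  | m + 1, P => CohB1.tensorMod A (iterT A m P)

theorem iterT_ref1 (hN : Pi1.IsNormalScheme X) {A P : X.Modules} (hA : PicF.IsInvertible A) (hP : RefHull.IsRef1 P)
    {a : A.presheaf.stalk (genericPoint X)} (ha : a ≠ 0) {v : P.presheaf.stalk (genericPoint X)} (hv : v ≠ 0) :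
    ∀ m : ℕ, RefHull.IsRef1 (iterT A m P) ∧
    ∃ w : (iterT A m P).presheaf.stalk (genericPoint X), w ≠ 0 ∧
      ∀ x : X, Order.coheight x = 1 → sord (iterT A m P) x w = (m : ℤ) * sord A x a + sord P x v
  | 0 => ⟨hP, v, hv, fun x _ => by rw [Nat.cast_zero, zero_mul, zero_add]; rfl⟩
  | m + 1 => by
    obtain ⟨hR, w, hw, hx⟩ := iterT_ref1 hN hA hP ha hv m
    obtain ⟨hR', z, hz, hzx⟩ := twist_ref1 hN hA hR ha hw
    refine ⟨hR', z, hz, fun x hc => ?_⟩
    rw [show sord (iterT A (m + 1) P) x z = _ from hzx x hc, hx x hc]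
    push_cast; ring

/-- An invertible module is reflexive of rank one. -/
theorem isRef1_invertible (hN : Pi1.IsNormalScheme X) {A : X.Modules} (hA : PicF.IsInvertible A) :
    RefHull.IsRef1 A := by
  obtain ⟨o, ho, -⟩ := exists_unit_section (X := X)
  obtain ⟨W, hW, e, he⟩ := framed_of_isInvertible hA (genericPoint X)
  obtain ⟨h, w, hw, -⟩ := twist_ref1 hN hA isRef1_structureModule (germM_ne_zero he hW) ho
  exact (transport_sord hN (EGA73.tensComm A (Coh.structureModule X) ≪≫ EGA73.tensUnitLeft A) h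
    (Groth.Agent.Amp73.isCoh_of_isInvertible hA) hw).1

/-- Powers of a twisted module. -/
theorem refPow_twist_iso (hN : Pi1.IsNormalScheme X) {A F : X.Modules} (hA : PicF.IsInvertible A)
    (hF : RefHull.IsRef1 F) (m : ℕ) :
    Nonempty (RefPow.refPow (RefPow.refTensor F A) m ≅ iterT A m (RefPow.refPow F m)) := by
  have hA1 := isRef1_invertible hN hA
  obtain ⟨v, hv⟩ := exists_ne_zero hN hF
  obtain ⟨a, ha⟩ := exists_ne_zero hN hA1
  obtain ⟨hR, z, hz, hzx⟩ := exists_refTensor hN hF hA1 hv ha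
  obtain ⟨hP, w, hw, hwx⟩ := exists_refPow_sord hN hR hz m
  obtain ⟨hQ, w₁, hw₁, hwx₁⟩ := exists_refPow_sord hN hF hv m
  obtain ⟨hT, w₂, hw₂, hwx₂⟩ := iterT_ref1 hN hA hQ ha hw₁ m
  exact iso_of_sord hN hP hT hw hw₂ fun x hc => by
    rw [hwx x hc, hwx₂ x hc, hwx₁ x hc, show sord (RefPow.refTensor F A) x z = _ from hzx x hc]; ring

theorem refPow_invertible_iso (hN : Pi1.IsNormalScheme X) {A : X.Modules} (hA : PicF.IsInvertible A) (m : ℕ) :
    Nonempty (RefPow.refPow A m ≅ iterT A m (Coh.structureModule X)) := by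
  have hA1 := isRef1_invertible hN hA
  obtain ⟨o, ho, hox⟩ := exists_unit_section (X := X)
  obtain ⟨a, ha⟩ := exists_ne_zero hN hA1
  obtain ⟨hP, w, hw, hwx⟩ := exists_refPow_sord hN hA1 ha m
  obtain ⟨hT, w₂, hw₂, hwx₂⟩ := iterT_ref1 hN hA isRef1_structureModule ha ho m
  exact iso_of_sord hN hP hT hw hw₂ fun x hc => by
    rw [hwx x hc, hwx₂ x hc, hox x hc, add_zero]

theorem dual_tensor_iso (hN : Pi1.IsNormalScheme X) {F : X.Modules} (hF : RefHull.IsRef1 F) :
    RefHull.IsRef1 (RefHull.dual F) ∧ Nonempty (RefPow.refTensor F (RefHull.dual F) ≅ Coh.structureModule X) := by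
  obtain ⟨v, hv⟩ := exists_ne_zero hN hF
  obtain ⟨hD, d, hd, hdx⟩ := exists_dual_sord hN hF hv
  obtain ⟨hR, z, hz, hzx⟩ := exists_refTensor hN hF hD hv hd
  obtain ⟨o, ho, hox⟩ := exists_unit_section (X := X)
  exact ⟨hD, iso_of_sord hN hR isRef1_structureModule hz ho fun x hc => by
    rw [hzx x hc, hdx x hc, hox x hc, add_neg_cancel]⟩

section Ops

omit [IsIntegral X] [IsLocallyNoetherian X]
variable {δ : X → ℤ} {n : ℤ}

theorem iterT_clSub (hX : Cyc.IsSetup X δ) {A P : X.Modules} (hA : PicF.IsInvertible A) (hP : Cyc.CohLe δ n P) :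
    ∀ m : ℕ, Cyc.CohLe δ n (iterT A m P) ∧
      KZero.clSub (Cyc.CohLe δ n) (iterT A m P) = (fun x => tensOp hX hA x)^[m] (KZero.clSub (Cyc.CohLe δ n) P)
  | 0 => ⟨hP, rfl⟩
  | m + 1 => by
    obtain ⟨h1, h2⟩ := iterT_clSub hX hA hP m
    refine ⟨cohLe_tensor_left hX hA h1, ?_⟩
    rw [Function.iterate_succ_apply', ← h2, tensOp_clSub hX hA h1]
    rfl

theorem tensOp_capOp (hX : Cyc.IsSetup X δ) {A A' : X.Modules} (hA : PicF.IsInvertible A) (hA' : PicF.IsInvertible A')
    (e : Nonempty (CohB1.tensorMod A A' ≅ Coh.structureModule X)) (x : KZero.K0sub (Cyc.CohLe δ n)) :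
    tensOp hX hA (capOp hX hA' x) = tensOp hX hA x - x := by
  obtain ⟨e⟩ := e
  rw [capOp_apply, map_sub]
  congr 1
  rw [← tensOp_tensor hX hA hA' x,
    DFunLike.congr_fun (tensOp_congr hX (EGA73.isInvertible_tensorMod hA hA') EGA73.isInvertible_structureModule e) x,
    tensOp_unit]

theorem commute_tens_cap (hX : Cyc.IsSetup X δ) {A A' : X.Modules} (hA : PicF.IsInvertible A) (hA' : PicF.IsInvertible A')
    (e : Nonempty (CohB1.tensorMod A A' ≅ Coh.structureModule X)) (m : ℕ) (x : KZero.K0sub (Cyc.CohLe δ n)) :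
    (fun x => tensOp hX hA x)^[m + 1] (capOp hX hA' x) =
      (fun x => tensOp hX hA x)^[m + 1] x - (fun x => tensOp hX hA x)^[m] x := by
  rw [Function.iterate_succ_apply, tensOp_capOp hX hA hA' e, Function.iterate_succ_apply]
  exact iterate_map_sub (tensOp (n := n) hX hA) m _ _

/-- Values of a functional on twists, when the third difference vanishes. -/
theorem eval_twist (hX : Cyc.IsSetup X δ) {A A' : X.Modules} (hA : PicF.IsInvertible A) (hA' : PicF.IsInvertible A')
    (e : Nonempty (CohB1.tensorMod A A' ≅ Coh.structureModule X))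
    (χ : KZero.K0sub (Cyc.CohLe δ n) →+ ℤ) (x : KZero.K0sub (Cyc.CohLe δ n))
    (h3 : ∀ m : ℕ, χ ((fun x => tensOp hX hA x)^[m] (capOp hX hA' (capOp hX hA' (capOp hX hA' x)))) = 0)
    (m : ℕ) :
    2 * χ ((fun x => tensOp hX hA x)^[m] x) =
      2 * χ x + 2 * (m : ℤ) * χ (capOp hX hA' x) + (m : ℤ) * ((m : ℤ) + 1) * χ (capOp hX hA' (capOp hX hA' x)) := by
  have g2 : ∀ m : ℕ, χ ((fun x => tensOp hX hA x)^[m] (capOp hX hA' (capOp hX hA' x))) =
      χ (capOp hX hA' (capOp hX hA' x)) := by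
    intro m
    induction m with
    | zero => rfl
    | succ m ih =>
      have h := congrArg χ (commute_tens_cap hX hA hA' e m (capOp hX hA' (capOp hX hA' x)))
      rw [h3 (m + 1), map_sub] at h
      omega
  have g1 : ∀ m : ℕ, χ ((fun x => tensOp hX hA x)^[m] (capOp hX hA' x)) =
      χ (capOp hX hA' x) + (m : ℤ) * χ (capOp hX hA' (capOp hX hA' x)) := by
    intro m
    induction m with
    | zero => simp
    | succ m ih =>
      have h := congrArg χ (commute_tens_cap hX hA hA' e m (capOp hX hA' x))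
      rw [g2 (m + 1), map_sub] at h
      push_cast
      linarith
  induction m with
  | zero => simp
  | succ m ih =>
    have h := congrArg χ (commute_tens_cap hX hA hA' e m x)
    rw [g1 (m + 1), map_sub] at h
    push_cast at h ⊢
    linarith

theorem tens_iterate_mem (hX : Cyc.IsSetup X δ) {A : X.Modules} (hA : PicF.IsInvertible A) {j : ℤ} (hj : j ≤ n)
    {x : KZero.K0sub (Cyc.CohLe δ n)} (hx : x ∈ filt δ n j) : ∀ m : ℕ, (fun x => tensOp hX hA x)^[m] x ∈ filt δ n j
  | 0 => hx
  | m + 1 => by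
    rw [Function.iterate_succ_apply']
    exact tensOp_mem hX hA hj (tens_iterate_mem hX hA hj hx m)

theorem mem_filt_of_coh (hle : ∀ x : X, δ x ≤ n) (x : KZero.K0sub (Cyc.CohLe δ n)) : x ∈ filt δ n n := by
  obtain ⟨a, rfl⟩ := QuotientAddGroup.mk_surjective x
  induction a using FreeAbelianGroup.induction_on with
  | zero => exact zero_mem _
  | of F =>
    have h : KZero.clSub (Cyc.CohLe δ n) F.1 ∈ filt δ n n := AddSubgroup.subset_closure ⟨F.1, F.2, rfl⟩
    rw [KCohDev46.clSub_eq _ F.2] at h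
    exact h
  | neg F hF => exact neg_mem hF
  | add a b ha hb => exact add_mem ha hb

end Ops

end Groth.Agent.RefCh18
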